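import Groth.Agent.H06QR.Basic
import Mathlib.RingTheory.Regular.RegularSequence
import Mathlib.RingTheory.Filtration

/-! Weakly regular sequences are quasi-regular. -/

set_option autoImplicit false

namespace Groth.Agent.H06QR.Regular

open MvPolynomial RingTheory.Sequence

universe u

variable {R : Type u} [CommRing R]

/-- The value of a homogeneous polynomial with coefficients in `J'`. -/
theorem eval_mem_mul {r : ℕ} (f : Fin r → R) {n : ℕ} {J' : Ideal R}
    {P : MvPolynomial (Fin r) R} (hP : P.IsHomogeneous n) (hc : ∀ d, P.coeff d ∈ J') :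
    eval f P ∈ J' * Ideal.span (Set.range f) ^ n := by
  rw [show eval f P = ∑ d ∈ P.support, eval f (monomial d (P.coeff d)) by rw [← map_sum, ← P.as_sum]]
  refine Submodule.sum_mem _ fun d hd => ?_
  have h : monomial d (P.coeff d) = C (P.coeff d) * monomial d 1 := by
    rw [C_mul_monomial, mul_one]
  rw [h, map_mul, eval_C]
  refine Ideal.mul_mem_mul (hc d) (eval_mem f (isHomogeneous_monomial 1 ?_))
  rw [hP.degree_eq_sum_deg_support hd]
  exact (Finsupp.degree_apply d).symm ▸ rfl

/-- Every element of `J' * I ^ n` is the value of a homogeneous polynomial with coefficients in `J'`. -/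
theorem exists_homogeneous_coeff_mem {r : ℕ} (f : Fin r → R) {n : ℕ} {J' : Ideal R} {x : R}
    (hx : x ∈ J' * Ideal.span (Set.range f) ^ n) :
    ∃ P : MvPolynomial (Fin r) R, P.IsHomogeneous n ∧ (∀ d, P.coeff d ∈ J') ∧ eval f P = x := by
  refine Submodule.mul_induction_on hx (fun a ha y hy => ?_) fun a b ha hb => ?_
  · obtain ⟨P, hP, rfl⟩ := exists_homogeneous f hy
    exact ⟨C a * P, hP.C_mul a, fun d => by rw [coeff_C_mul]; exact J'.mul_mem_right _ ha, by simp⟩
  · obtain ⟨P, hP, hPc, rfl⟩ := ha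
    obtain ⟨Q, hQ, hQc, rfl⟩ := hb
    exact ⟨P + Q, hP.add hQ, fun d => by rw [coeff_add]; exact J'.add_mem (hPc d) (hQc d), map_add ..⟩

/-- Splitting off the last variable. -/
theorem exists_split {r n : ℕ} (P : MvPolynomial (Fin (r + 1)) R) (hP : P.IsHomogeneous (n + 1)) :
    ∃ (P0 : MvPolynomial (Fin r) R) (P1 : MvPolynomial (Fin (r + 1)) R),
      P0.IsHomogeneous (n + 1) ∧ P1.IsHomogeneous n ∧
        P = rename Fin.castSucc P0 + X (Fin.last r) * P1 := by
  classical
  rw [P.as_sum]
  refine Finset.sum_induction _ (fun Q => ∃ (P0 : MvPolynomial (Fin r) R)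
    (P1 : MvPolynomial (Fin (r + 1)) R), P0.IsHomogeneous (n + 1) ∧ P1.IsHomogeneous n ∧
      Q = rename Fin.castSucc P0 + X (Fin.last r) * P1) ?_ ?_ fun d hd => ?_
  · rintro _ _ ⟨A0, A1, hA0, hA1, rfl⟩ ⟨B0, B1, hB0, hB1, rfl⟩
    exact ⟨A0 + B0, A1 + B1, hA0.add hB0, hA1.add hB1, by rw [map_add]; ring⟩
  · exact ⟨0, 0, isHomogeneous_zero .., isHomogeneous_zero .., by simp⟩
  have hdeg : Finsupp.degree d = n + 1 := by
    rw [hP.degree_eq_sum_deg_support hd]
    exact Finsupp.degree_apply d
  by_cases h0 : d (Fin.last r) = 0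
  · let d' : Fin r →₀ ℕ := Finsupp.equivFunOnFinite.symm fun i => d i.castSucc
    have hd' : d'.mapDomain Fin.castSucc = d := by
      refine Finsupp.ext fun j => ?_
      induction j using Fin.lastCases with
      | last =>
        rw [h0, Finsupp.mapDomain_of_notMem_range]
        rintro ⟨i, hi⟩
        exact (Fin.castSucc_lt_last i).ne hi
      | cast i => rw [Finsupp.mapDomain_apply (Fin.castSucc_injective r)]; rfl
    refine ⟨monomial d' (P.coeff d), 0, isHomogeneous_monomial _ ?_, isHomogeneous_zero .., ?_⟩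
    · rw [← hdeg, Finsupp.degree_eq_sum, Finsupp.degree_eq_sum, Fin.sum_univ_castSucc, h0, add_zero]
      rfl
    · rw [rename_monomial, hd', mul_zero, add_zero]
  · obtain ⟨e, he⟩ : ∃ e, d = Finsupp.single (Fin.last r) 1 + e :=
      ⟨d - Finsupp.single (Fin.last r) 1, (add_tsub_cancel_of_le
        (Finsupp.single_le_iff.mpr (Nat.one_le_iff_ne_zero.mpr h0))).symm⟩
    refine ⟨0, monomial e (P.coeff d), isHomogeneous_zero .., isHomogeneous_monomial _ ?_, ?_⟩
    · rw [he, map_add, Finsupp.degree_single] at hdeg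
      omega
    · rw [map_zero, zero_add, X, monomial_mul, one_mul, ← he]

/-- Weakly regular sequences: every homogeneous relation has coefficients in the ideal. -/
theorem coeff_mem_of_eval_eq_zero {r : ℕ} (f : Fin r → R)
    (hf : IsWeaklyRegular R (List.ofFn f)) {n : ℕ} (P : MvPolynomial (Fin r) R)
    (hP : P.IsHomogeneous n) (h0 : eval f P = 0) (d : Fin r →₀ ℕ) :
    P.coeff d ∈ Ideal.span (Set.range f) := by
  induction r generalizing n with
  | zero =>
    rw [Subsingleton.elim d 0]
    rw [P.eq_C_of_isEmpty, eval_C] at h0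
    rw [h0]
    exact zero_mem _
  | succ r ih =>
    set g : Fin r → R := fun i => f i.castSucc with hgdef
    set a := f (Fin.last r) with hadef
    set I' := Ideal.span (Set.range g) with hI'def
    have hsplit : List.ofFn f = List.ofFn g ++ [a] := by
      rw [List.ofFn_succ', List.concat_eq_append]
    rw [hsplit, isWeaklyRegular_append_iff, isWeaklyRegular_singleton_iff] at hf
    obtain ⟨hg, ha⟩ := hf
    have ha' : ∀ x, a * x ∈ I' → x ∈ I' := by
      intro x hx
      have hI : (Ideal.ofList (List.ofFn g) • ⊤ : Submodule R R) = I' := by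
        rw [Ideal.smul_eq_mul, Ideal.mul_top, hI'def]
        show Ideal.span _ = _
        congr 1
        ext y
        exact List.mem_ofFn' g y
      have := (isSMulRegular_quotient_iff_mem_of_smul_mem _ a).mp ha x
      rw [hI] at this
      exact this hx
    have hII' : I' ≤ Ideal.span (Set.range f) :=
      Ideal.span_mono (by rintro _ ⟨i, rfl⟩; exact ⟨i.castSucc, rfl⟩)
    -- `a` is a nonzerodivisor modulo every power of `I'`
    have hpow : ∀ (k : ℕ) (x : R), a * x ∈ I' ^ k → x ∈ I' ^ k := by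
      intro k
      induction k with
      | zero => intro x _; simp
      | succ k ihk =>
        intro x hx
        obtain ⟨Q, hQ, rfl⟩ := exists_homogeneous g (ihk x (Ideal.pow_le_pow_right k.le_succ hx))
        rw [pow_succ'] at hx
        obtain ⟨S, hS, hSc, hSe⟩ := exists_homogeneous_coeff_mem g hx
        rw [pow_succ']
        refine eval_mem_mul g hQ fun e => ha' _ ?_
        have h1 := ih g hg (C a * Q - S) ((hQ.C_mul a).sub hS)
          (by rw [map_sub, map_mul, eval_C, hSe, sub_self]) e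
        rw [coeff_sub, coeff_C_mul] at h1
        exact (Submodule.sub_mem_iff_left _ (hSc e)).mp h1
    induction n generalizing P d with
    | zero =>
      have hC : P = C (P.coeff 0) :=
        totalDegree_eq_zero_iff_eq_C.mp (Nat.le_zero.mp hP.totalDegree_le)
      rw [hC, coeff_C]
      split
      · rw [hC, eval_C] at h0
        rw [h0]
        exact zero_mem _
      · exact zero_mem _
    | succ n ihn =>
      obtain ⟨P0, P1, hP0, hP1, rfl⟩ := exists_split P hP
      rw [map_add, map_mul, eval_X, eval_rename] at h0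
      have hev : eval g P0 + a * eval f P1 = 0 := h0
      have h1 : eval f P1 ∈ I' ^ (n + 1) := hpow _ _ (by
        rw [eq_neg_of_add_eq_zero_right hev]
        exact Submodule.neg_mem _ (eval_mem g hP0))
      obtain ⟨H, hH, hHe⟩ := exists_homogeneous g h1
      have hc0 : ∀ e, P0.coeff e ∈ Ideal.span (Set.range f) := fun e => by
        have h2 := hII' (ih g hg (P0 + C a * H) (hP0.add (hH.C_mul a))
          (by rw [map_add, map_mul, eval_C, hHe, hev]) e)
        rw [coeff_add, coeff_C_mul] at h2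
        exact (Submodule.add_mem_iff_left _
          (Ideal.mul_mem_right _ _ (Ideal.subset_span (Set.mem_range_self (Fin.last r))))).mp h2
      have h2 : eval f P1 ∈ Ideal.span (Set.range f) * Ideal.span (Set.range f) ^ n := by
        rw [← pow_succ']
        exact Ideal.pow_right_mono hII' _ h1
      obtain ⟨H', hH', hH'c, hH'e⟩ := exists_homogeneous_coeff_mem f h2
      have hc1 : ∀ e, P1.coeff e ∈ Ideal.span (Set.range f) := fun e => by
        have h3 := ihn (P1 - H') (hP1.sub hH') (by rw [map_sub, hH'e, sub_self]) e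
        rw [coeff_sub] at h3
        exact (Submodule.sub_mem_iff_left _ (hH'c e)).mp h3
      refine mem_map_C_iff.mp (Ideal.add_mem _ ?_ (Ideal.mul_mem_left _ _ (mem_map_C_iff.mpr hc1))) d
      have h4 := Ideal.mem_map_of_mem (rename (R := R) Fin.castSucc).toRingHom
        (mem_map_C_iff.mpr hc0)
      rw [Ideal.map_map, show (rename (R := R) Fin.castSucc).toRingHom.comp C = C from
        RingHom.ext fun c => rename_C _ c] at h4
      exact h4

/-- Weakly regular sequences are quasi-regular. -/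
theorem isQuasiRegular_of_isWeaklyRegular {r : ℕ} (f : Fin r → R)
    (hf : IsWeaklyRegular R (List.ofFn f)) : CAlgX.IsQuasiRegular f := by
  intro n P hP h d
  rw [pow_succ'] at h
  obtain ⟨Q, hQ, hQc, hQe⟩ := exists_homogeneous_coeff_mem f h
  have h1 := coeff_mem_of_eval_eq_zero f hf (P - Q) (hP.sub hQ)
    (by rw [map_sub, hQe, sub_self]) d
  rw [coeff_sub] at h1
  exact (Submodule.sub_mem_iff_left _ (hQc d)).mp h1

/-- If `f` is weakly regular on `A ⧸ J`, every element of `J ∩ I ^ n` lies in `J I ^ n + I ^ (n+1)`. -/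
theorem inf_pow_le_mul_sup {A : Type u} [CommRing A] (J : Ideal A) {r : ℕ} (f : Fin r → A)
    (hf : IsWeaklyRegular (A ⧸ J) (List.ofFn f)) (n : ℕ) :
    J ⊓ Ideal.span (Set.range f) ^ n ≤
      J * Ideal.span (Set.range f) ^ n ⊔ J ⊓ Ideal.span (Set.range f) ^ (n + 1) := by
  set I := Ideal.span (Set.range f) with hI
  rintro x ⟨hxJ, hxI⟩
  obtain ⟨P, hP, rfl⟩ := exists_homogeneous f hxI
  let π := Ideal.Quotient.mk J
  have hf' : IsWeaklyRegular (A ⧸ J) (List.ofFn (π ∘ f)) := by
    rw [← List.map_ofFn]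
    exact (isWeaklyRegular_map_algebraMap_iff (A ⧸ J) (A ⧸ J) (List.ofFn f)).mpr hf
  have hc : ∀ d, P.coeff d ∈ J ⊔ I := fun d => by
    have h1 := coeff_mem_of_eval_eq_zero (π ∘ f) hf' (P.map π) (hP.map π)
      (by rw [← map_eval]; exact Ideal.Quotient.eq_zero_iff_mem.mpr hxJ) d
    rw [coeff_map, Set.range_comp, ← Ideal.map_span, Ideal.mem_quotient_iff_mem_sup, sup_comm] at h1
    exact h1
  have h2 := eval_mem_mul f hP hc
  rw [Ideal.sup_mul, ← pow_succ'] at h2
  obtain ⟨y, hy, z, hz, hyz⟩ := Submodule.mem_sup.mp h2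
  refine Submodule.mem_sup.mpr ⟨y, hy, z, ⟨?_, hz⟩, hyz⟩
  have hyJ : y ∈ J := Ideal.mul_le_left hy
  have : z = eval f P - y := by rw [← hyz]; ring
  rw [this]
  exact sub_mem hxJ hyJ

/-- `J ∩ Iⁿ = J Iⁿ + (J ∩ I^N)`. -/
theorem inf_pow_eq {A : Type u} [CommRing A] (J : Ideal A) {r : ℕ} (f : Fin r → A)
    (hf : IsWeaklyRegular (A ⧸ J) (List.ofFn f)) {n N : ℕ} (hnN : n ≤ N) :
    J ⊓ Ideal.span (Set.range f) ^ n =
      J * Ideal.span (Set.range f) ^ n ⊔ J ⊓ Ideal.span (Set.range f) ^ N := by
  set I := Ideal.span (Set.range f) with hI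
  have hle : J * I ^ n ≤ J ⊓ I ^ n := Ideal.mul_le_inf
  refine le_antisymm ?_ (sup_le hle (inf_le_inf_left _ (Ideal.pow_le_pow_right hnN)))
  induction N, hnN using Nat.le_induction with
  | base => exact le_sup_right
  | succ N hnN ih =>
    refine ih.trans (sup_le le_sup_left ((inf_pow_le_mul_sup J f hf N).trans (sup_le_sup_right ?_ _)))
    exact Ideal.mul_mono_right (Ideal.pow_le_pow_right hnN)

/-- `J ∩ Iⁿ = J Iⁿ` for `I` in the Jacobson radical of a Noetherian ring. -/
theorem inf_pow_eq_mul_of_le_jacobson {A : Type u} [CommRing A] [IsNoetherianRing A] (J : Ideal A)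
    {r : ℕ} (f : Fin r → A) (hf : IsWeaklyRegular (A ⧸ J) (List.ofFn f))
    (hrad : Ideal.span (Set.range f) ≤ (⊥ : Ideal A).jacobson) (n : ℕ) :
    J ⊓ Ideal.span (Set.range f) ^ n = J * Ideal.span (Set.range f) ^ n := by
  set I := Ideal.span (Set.range f) with hI
  refine le_antisymm (fun x hx => ?_) Ideal.mul_le_inf
  have hall : ∀ N, x ∈ J * I ^ n ⊔ I ^ N := by
    intro N
    rcases le_or_gt n N with h | h
    · have h1 : J * I ^ n ⊔ J ⊓ I ^ N ≤ J * I ^ n ⊔ I ^ N := sup_le_sup le_rfl inf_le_right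
      exact h1 ((inf_pow_eq J f hf h).le hx)
    · exact Ideal.mem_sup_right (Ideal.pow_le_pow_right h.le hx.2)
  rw [← Submodule.Quotient.mk_eq_zero (p := J * I ^ n), ← Submodule.mem_bot (R := A),
    ← Ideal.iInf_pow_smul_eq_bot_of_le_jacobson (M := A ⧸ (J * I ^ n)) I hrad, Submodule.mem_iInf]
  intro N
  obtain ⟨y, hy, z, hz, hyz⟩ := Submodule.mem_sup.mp (hall N)
  have : (Submodule.Quotient.mk x : A ⧸ (J * I ^ n)) = z • (Submodule.Quotient.mk (1 : A)) := by
    rw [← Submodule.Quotient.mk_smul, smul_eq_mul, mul_one, ← hyz, Submodule.Quotient.mk_add,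
      (Submodule.Quotient.mk_eq_zero _).mpr hy, zero_add]
  rw [this]
  exact Submodule.smul_mem_smul hz trivial

end Groth.Agent.H06QR.Regular
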