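import Groth.Prelude.Def_CAlgX
import Groth.Agent.H06PP.Monomials
import Mathlib.RingTheory.Nakayama
import Mathlib.LinearAlgebra.Matrix.NonsingularInverse

/-! Quasi-regular sequences. -/

set_option autoImplicit false

namespace Groth.Agent.H06QR

universe u

variable {R : Type u} [CommRing R] {r : ℕ} (f : Fin r → R)

local notation "J" => Ideal.span (Set.range f)

theorem eval_mem {k : ℕ} {P : MvPolynomial (Fin r) R} (hP : P.IsHomogeneous k) :
    MvPolynomial.eval f P ∈ J ^ k := by
  have h : MvPolynomial.idealOfVars (Fin r) R ≤ (J).comap (MvPolynomial.eval f) := by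
    refine Ideal.span_le.mpr ?_
    rintro _ ⟨i, rfl⟩
    show MvPolynomial.eval f (MvPolynomial.X i) ∈ J
    rw [MvPolynomial.eval_X]
    exact Ideal.subset_span ⟨i, rfl⟩
  have hm : P ∈ MvPolynomial.idealOfVars (Fin r) R ^ k := by
    rw [MvPolynomial.mem_pow_idealOfVars_iff]
    intro d hd
    rw [hP.degree_eq_sum_deg_support hd]
    exact (Finsupp.degree_apply d).symm ▸ le_rfl
  exact (Ideal.pow_right_mono h k).trans (Ideal.le_comap_pow _ k) hm

/-- Every element of the `k`-th power is the value of a homogeneous polynomial of degree `k`. -/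
theorem exists_homogeneous {k : ℕ} {x : R} (hx : x ∈ J ^ k) :
    ∃ P : MvPolynomial (Fin r) R, P.IsHomogeneous k ∧ MvPolynomial.eval f P = x := by
  rw [H06PP.Graded.span_range_pow] at hx
  induction hx using Submodule.span_induction with
  | mem y hy =>
    obtain ⟨g, rfl⟩ := hy
    refine ⟨∏ i, MvPolynomial.X (g i), ?_, by rw [map_prod]; simp⟩
    have := MvPolynomial.IsHomogeneous.prod Finset.univ (fun i : Fin k => (MvPolynomial.X (g i) :
      MvPolynomial (Fin r) R)) (fun _ => 1) fun i _ => MvPolynomial.isHomogeneous_X R _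
    simpa using this
  | zero => exact ⟨0, MvPolynomial.isHomogeneous_zero .., map_zero _⟩
  | add a b _ _ ha hb =>
    obtain ⟨P, hP, rfl⟩ := ha
    obtain ⟨Q, hQ, rfl⟩ := hb
    exact ⟨P + Q, hP.add hQ, map_add ..⟩
  | smul c a _ ha =>
    obtain ⟨P, hP, rfl⟩ := ha
    exact ⟨MvPolynomial.C c * P, hP.C_mul c, by rw [map_mul, MvPolynomial.eval_C]; rfl⟩

theorem eval_linear (c : Fin r → R) :
    MvPolynomial.eval f (∑ i, MvPolynomial.C (c i) * MvPolynomial.X i) = ∑ i, c i * f i := by
  simp

theorem coeff_linear (c : Fin r → R) (j : Fin r) :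
    (∑ i, MvPolynomial.C (c i) * MvPolynomial.X i : MvPolynomial (Fin r) R).coeff (Finsupp.single j 1) = c j := by
  classical
  simp [MvPolynomial.coeff_sum, MvPolynomial.coeff_X, Finsupp.single_left_inj]

theorem isHomogeneous_linear (c : Fin r → R) :
    (∑ i, MvPolynomial.C (c i) * MvPolynomial.X i : MvPolynomial (Fin r) R).IsHomogeneous 1 :=
  MvPolynomial.IsHomogeneous.sum _ _ _ fun _ _ => (MvPolynomial.isHomogeneous_X R _).C_mul _

variable {f}

theorem coeff_mem_of_linear (hf : CAlgX.IsQuasiRegular f) (c : Fin r → R)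
    (h : ∑ i, c i * f i ∈ J ^ 2) (j : Fin r) : c j ∈ J := by
  rw [← coeff_linear c j]
  exact hf 1 _ (isHomogeneous_linear c) (by rw [eval_linear]; exact h) _

/-- Quasi-regularity only depends on the ideal (for a fixed length). -/
theorem isQuasiRegular_of_span_eq (hf : CAlgX.IsQuasiRegular f) (f' : Fin r → R)
    (h : Ideal.span (Set.range f') = J) : CAlgX.IsQuasiRegular f' := by
  classical
  choose a ha using fun i => Ideal.mem_span_range_iff_exists_fun.mp
    (h.le (Ideal.subset_span ⟨i, rfl⟩) : f' i ∈ J)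
  choose b hb using fun j => Ideal.mem_span_range_iff_exists_fun.mp
    (h.ge (Ideal.subset_span ⟨j, rfl⟩) : f j ∈ Ideal.span (Set.range f'))
  let q := Ideal.Quotient.mk J
  let Am : Matrix (Fin r) (Fin r) (R ⧸ J) := Matrix.of fun i j => q (a i j)
  let Bm : Matrix (Fin r) (Fin r) (R ⧸ J) := Matrix.of fun i j => q (b i j)
  have hBA : Bm * Am = 1 := by
    ext j l
    have key : ∑ l, (∑ i, b j i * a i l - if j = l then 1 else 0) * f l = 0 := by
      simp only [sub_mul, Finset.sum_sub_distrib, ite_mul, one_mul, zero_mul, Finset.sum_ite_eq,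
        Finset.mem_univ, if_true, Finset.sum_mul]
      rw [Finset.sum_comm, sub_eq_zero]
      refine Eq.trans (Finset.sum_congr rfl fun i _ => ?_) (hb j)
      rw [← ha i, Finset.mul_sum]
      simp only [mul_assoc]
    have := coeff_mem_of_linear hf _ (key ▸ zero_mem _) l
    rw [← Ideal.Quotient.eq_zero_iff_mem, map_sub, map_sum, sub_eq_zero] at this
    simp only [Matrix.mul_apply, Am, Bm, Matrix.of_apply, Matrix.one_apply, q, ← map_mul]
    rw [this]
    split_ifs <;> simp
  have hAB : ∀ i l, ∑ x, q (a i x) * q (b x l) = if i = l then 1 else 0 := fun i l => by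
    have e : Am * Bm = 1 := mul_eq_one_comm.mp hBA
    have := congrFun (congrFun e i) l
    simpa [Am, Bm, Matrix.mul_apply, Matrix.one_apply] using this
  let σ : MvPolynomial (Fin r) R →ₐ[R] MvPolynomial (Fin r) R :=
    MvPolynomial.aeval fun i => ∑ j, MvPolynomial.C (a i j) * MvPolynomial.X j
  let σA : MvPolynomial (Fin r) (R ⧸ J) →ₐ[R ⧸ J] MvPolynomial (Fin r) (R ⧸ J) :=
    MvPolynomial.aeval fun i => ∑ j, MvPolynomial.C (q (a i j)) * MvPolynomial.X j
  let σB : MvPolynomial (Fin r) (R ⧸ J) →ₐ[R ⧸ J] MvPolynomial (Fin r) (R ⧸ J) :=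
    MvPolynomial.aeval fun i => ∑ j, MvPolynomial.C (q (b i j)) * MvPolynomial.X j
  have hσ : σB.comp σA = AlgHom.id _ _ := MvPolynomial.algHom_ext fun i => by
    simp only [σA, σB, AlgHom.comp_apply, MvPolynomial.aeval_X, map_sum, map_mul, MvPolynomial.aeval_C,
      AlgHom.id_apply, MvPolynomial.algebraMap_eq, Finset.mul_sum, ← mul_assoc]
    rw [Finset.sum_comm]
    simp only [← MvPolynomial.C_mul, ← Finset.sum_mul, ← map_sum, hAB]
    simp [apply_ite (MvPolynomial.C : R ⧸ J → MvPolynomial (Fin r) (R ⧸ J)), ite_mul]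
  intro k P hP he d
  rw [h] at he ⊢
  have hhom : (σ P).IsHomogeneous k := by
    have := hP.aeval (fun i => ∑ j, MvPolynomial.C (a i j) * MvPolynomial.X j)
      (fun i => isHomogeneous_linear (a i))
    rwa [one_mul] at this
  have heval : MvPolynomial.eval f (σ P) = MvPolynomial.eval f' P := by
    refine RingHom.congr_fun (?_ : (MvPolynomial.eval f).comp σ.toRingHom = MvPolynomial.eval f') P
    refine MvPolynomial.ringHom_ext (fun c => by simp [σ]) fun i => ?_
    show MvPolynomial.eval f (σ (MvPolynomial.X i)) = _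
    rw [MvPolynomial.aeval_X, eval_linear, MvPolynomial.eval_X, ha]
  have h0 : MvPolynomial.map q (σ P) = 0 := MvPolynomial.ext _ _ fun e => by
    rw [MvPolynomial.coeff_map, MvPolynomial.coeff_zero]
    exact Ideal.Quotient.eq_zero_iff_mem.mpr (hf k _ hhom (heval ▸ he) e)
  have hcomm : MvPolynomial.map q (σ P) = σA (MvPolynomial.map q P) := by
    refine RingHom.congr_fun (?_ : (MvPolynomial.map q).comp σ.toRingHom =
      σA.toRingHom.comp (MvPolynomial.map q)) P
    refine MvPolynomial.ringHom_ext (fun c => by simp [σ, σA]) fun i => ?_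
    simp [σ, σA]
  have hP0 : MvPolynomial.map q P = 0 := by
    rw [← AlgHom.id_apply (R := R ⧸ J) (MvPolynomial.map q P), ← hσ, AlgHom.comp_apply, ← hcomm, h0, map_zero]
  rw [← Ideal.Quotient.eq_zero_iff_mem, ← MvPolynomial.coeff_map q P d, hP0, MvPolynomial.coeff_zero]

/-- The conormal module of a quasi-regular sequence is free on it. -/
theorem cotangent_basis (hf : CAlgX.IsQuasiRegular f) {I : Ideal R} (hI : J = I) (g : Fin r → I)
    (hg : ∀ i, (g i : R) = f i) :
    LinearIndependent (R ⧸ I) (fun i => I.toCotangent (g i)) ∧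
      Submodule.span (R ⧸ I) (Set.range fun i => I.toCotangent (g i)) = ⊤ := by
  subst hI
  constructor
  · rw [Fintype.linearIndependent_iff]
    intro c hc j
    choose c' hc' using fun i => Ideal.Quotient.mk_surjective (c i)
    have : (J).toCotangent (∑ i, c' i • g i) = 0 := by
      rw [map_sum, ← hc]
      refine Finset.sum_congr rfl fun i _ => ?_
      rw [map_smul, ← hc']
      rfl
    rw [Ideal.toCotangent_eq_zero, Submodule.coe_sum] at this
    simp only [Submodule.coe_smul, smul_eq_mul, hg] at this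
    rw [← hc', Ideal.Quotient.eq_zero_iff_mem]
    exact coeff_mem_of_linear hf c' this j
  · rw [eq_top_iff]
    intro x _
    obtain ⟨⟨x, hx⟩, rfl⟩ := Ideal.toCotangent_surjective _ x
    obtain ⟨c, hc⟩ := Ideal.mem_span_range_iff_exists_fun.mp hx
    have : (⟨x, hx⟩ : ↥J) = ∑ i, c i • g i := Subtype.ext (by
      rw [Submodule.coe_sum]; simp [hg, hc])
    rw [this, map_sum]
    refine Submodule.sum_mem _ fun i _ => ?_
    rw [map_smul]
    show Ideal.Quotient.mk (J) (c i) • (J).toCotangent (g i) ∈ _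
    exact Submodule.smul_mem _ _ (Submodule.subset_span ⟨i, rfl⟩)

end Groth.Agent.H06QR
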