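import Groth.Agent.H06QR.Basic

/-! The canonical surjection `Sym^k (J/J²) → J^k/J^(k+1)`. -/

set_option autoImplicit false

namespace Groth.Agent.H06QR

universe u

open H06PP (SymPow.ext)
open H06PP.Graded (prod_sub_prod_mem span_range_pow)

variable {R : Type u} [CommRing R] (J : Ideal R)

/-- A representative of a conormal class. -/
noncomputable def rep (x : J.Cotangent) : R := ((Ideal.toCotangent_surjective J x).choose : R)

theorem rep_mem (x : J.Cotangent) : rep J x ∈ J := (Ideal.toCotangent_surjective J x).choose.2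

theorem toCotangent_rep (x : J.Cotangent) : J.toCotangent ⟨rep J x, rep_mem J x⟩ = x :=
  (Ideal.toCotangent_surjective J x).choose_spec

theorem rep_sub_mem {a : R} (ha : a ∈ J) : rep J (J.toCotangent ⟨a, ha⟩) - a ∈ J ^ 2 :=
  (Ideal.toCotangent_eq J).mp (toCotangent_rep J (J.toCotangent ⟨a, ha⟩))

theorem rep_add (x y : J.Cotangent) : rep J (x + y) - (rep J x + rep J y) ∈ J ^ 2 := by
  have h := rep_sub_mem J (add_mem (rep_mem J x) (rep_mem J y))
  rwa [show J.toCotangent ⟨rep J x + rep J y, _⟩ = x + y from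
    (map_add J.toCotangent ⟨_, rep_mem J x⟩ ⟨_, rep_mem J y⟩).trans
      (congrArg₂ (· + ·) (toCotangent_rep J x) (toCotangent_rep J y))] at h

theorem rep_smul (c : R) (x : J.Cotangent) : rep J (c • x) - c * rep J x ∈ J ^ 2 := by
  have h := rep_sub_mem J (Ideal.mul_mem_left J c (rep_mem J x))
  rwa [show J.toCotangent ⟨c * rep J x, _⟩ = c • x from
    (J.toCotangent.map_smul c ⟨_, rep_mem J x⟩).trans (congrArg (c • ·) (toCotangent_rep J x))] at h

variable {J}

/-- The class in a graded piece. -/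
noncomputable abbrev cls (k : ℕ) (x : R) (hx : x ∈ J ^ k) : PP16.grJ R J k := Submodule.Quotient.mk ⟨x, hx⟩

theorem cls_eq_iff {k : ℕ} {x y : R} (hx : x ∈ J ^ k) (hy : y ∈ J ^ k) :
    cls k x hx = cls k y hy ↔ x - y ∈ J ^ (k + 1) := Submodule.Quotient.eq _

theorem cls_eq {k : ℕ} {x y : R} (hx : x ∈ J ^ k) (hy : y ∈ J ^ k) (h : x - y ∈ J ^ (k + 1)) :
    cls k x hx = cls k y hy := (cls_eq_iff hx hy).mpr h

theorem cls_eq_zero {k : ℕ} {x : R} (hx : x ∈ J ^ k) : cls k x hx = 0 ↔ x ∈ J ^ (k + 1) :=
  Submodule.Quotient.mk_eq_zero _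

variable {ι : Type u} [Fintype ι]

theorem prod_mem (x : ι → R) (hx : ∀ i, x i ∈ J) : ∏ i, x i ∈ J ^ Fintype.card ι :=
  PP16.prod_mem_pow J Finset.univ x fun i _ => hx i

/-- The multilinear map behind `phiJ`. -/
noncomputable def phiMulti : MultilinearMap R (fun _ : ι => J.Cotangent) (PP16.grJ R J (Fintype.card ι)) where
  toFun x := cls _ (∏ i, rep J (x i)) (prod_mem _ fun i => rep_mem J _)
  map_update_add' := by
    intro _ x j a b
    refine cls_eq _ (add_mem (prod_mem _ fun i => rep_mem J _) (prod_mem _ fun i => rep_mem J _)) ?_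
    simp only [Function.apply_update (fun _ => rep J), Finset.prod_update_of_mem (Finset.mem_univ j)]
    rw [← add_mul, ← sub_mul, show Fintype.card ι + 1 = 2 + (Finset.univ \ {j}).card by
      rw [Finset.card_univ_sdiff, Finset.card_singleton]
      have := Fintype.card_pos_iff.mpr ⟨j⟩
      omega, pow_add]
    exact Ideal.mul_mem_mul (rep_add J a b) (PP16.prod_mem_pow J _ _ fun i _ => rep_mem J _)
  map_update_smul' := by
    intro _ x j c a
    refine (cls_eq (y := c * ∏ i, rep J (Function.update x j a i)) _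
      (Ideal.mul_mem_left _ _ (prod_mem _ fun i => rep_mem J _)) ?_).trans ?_
    · simp only [Function.apply_update (fun _ => rep J), Finset.prod_update_of_mem (Finset.mem_univ j)]
      rw [← mul_assoc, ← sub_mul, show Fintype.card ι + 1 = 2 + (Finset.univ \ {j}).card by
        rw [Finset.card_univ_sdiff, Finset.card_singleton]
        have := Fintype.card_pos_iff.mpr ⟨j⟩
        omega, pow_add]
      exact Ideal.mul_mem_mul (rep_smul J c a) (PP16.prod_mem_pow J _ _ fun i _ => rep_mem J _)
    · rfl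

/-- The canonical map `Sym^ι (J/J²) → J^k/J^(k+1)`. -/
noncomputable def phiJ : SymmetricPower R ι J.Cotangent →ₗ[R] PP16.grJ R J (Fintype.card ι) :=
  H06PP.SymPow.lift phiMulti fun e x => cls_eq _ _ <| by
    rw [Equiv.prod_comp e fun i => rep J (x i), sub_self]
    exact zero_mem _

theorem phiJ_tprod (x : ι → ↥J) :
    phiJ (SymmetricPower.tprod R fun i => J.toCotangent (x i)) = PP16.zetaJ R J x := by
  refine (H06PP.SymPow.lift_tprod _ _ _).trans (cls_eq _ _ ?_)
  exact prod_sub_prod_mem J Finset.univ (fun i _ => rep_mem J _) (fun i _ => (x i).2)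
    fun i _ => rep_sub_mem J (x i).2

theorem phiJ_surjective : Function.Surjective (phiJ (J := J) (ι := ι)) := by
  intro q
  obtain ⟨⟨x, hx⟩, rfl⟩ := Submodule.Quotient.mk_surjective _ q
  suffices ∀ x ∈ J ^ Fintype.card ι, ∃ t, ∀ hx, phiJ (J := J) (ι := ι) t = cls _ x hx by
    obtain ⟨t, ht⟩ := this x hx
    exact ⟨t, ht hx⟩
  clear hx x
  intro x hx
  rw [← Ideal.span_eq J, ← Subtype.range_coe (s := (J : Set R)), span_range_pow] at hx
  have hmem : ∀ {a : R}, a ∈ Submodule.span R (Set.range fun g : Fin (Fintype.card ι) → ↥J => ∏ i, (g i : R)) →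
      a ∈ J ^ Fintype.card ι := by
    intro a ha
    refine Submodule.span_le.mpr ?_ ha
    rintro _ ⟨g, rfl⟩
    simpa using Ideal.prod_mem_prod (s := Finset.univ) (I := fun _ => J) fun i _ => (g i).2
  induction hx using Submodule.span_induction with
  | mem y hy =>
    obtain ⟨g, rfl⟩ := hy
    refine ⟨SymmetricPower.tprod R fun i => J.toCotangent (g (Fintype.equivFin ι i)), fun hx => ?_⟩
    rw [phiJ_tprod]
    refine cls_eq _ _ ?_
    show ∏ i, ((g (Fintype.equivFin ι i) : R)) - ∏ i, ((g i : R)) ∈ _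
    rw [Equiv.prod_comp (Fintype.equivFin ι) fun i => ((g i : R)), sub_self]
    exact zero_mem _
  | zero => exact ⟨0, fun hx => by rw [map_zero]; exact ((cls_eq_zero hx).mpr (zero_mem _)).symm⟩
  | add a c ha hc iha ihc =>
    obtain ⟨t, ht⟩ := iha
    obtain ⟨t', ht'⟩ := ihc
    exact ⟨t + t', fun hx => by rw [map_add, ht (hmem ha), ht' (hmem hc)]; rfl⟩
  | smul r a ha iha =>
    obtain ⟨t, ht⟩ := iha
    exact ⟨r • t, fun hx => by rw [map_smul, ht (hmem ha)]; rfl⟩

theorem symGr_of_injective
    (h : ∀ (ι : Type u) [Fintype ι] [Nonempty ι], Function.Injective (phiJ (J := J) (ι := ι))) :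
    PP16.SymGrBijective R J := fun ι _ _ => ⟨phiJ, phiJ_tprod, h ι, phiJ_surjective⟩

theorem phiJ_injective (h : PP16.SymGrBijective R J) [Nonempty ι] :
    Function.Injective (phiJ (J := J) (ι := ι)) := by
  obtain ⟨φ, hφ, hbij⟩ := h ι
  rw [show phiJ (J := J) (ι := ι) = φ from H06PP.SymPow.ext fun y => ?_]
  · exact hbij.1
  · choose x hx using fun i => Ideal.toCotangent_surjective J (y i)
    rw [show y = fun i => J.toCotangent (x i) from funext fun i => (hx i).symm, phiJ_tprod, hφ]

/-- `J` kills the symmetric powers of its conormal module. -/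
theorem smul_eq_zero_of_mem [Nonempty ι] {a : R} (ha : a ∈ J) (t : SymmetricPower R ι J.Cotangent) :
    a • t = 0 := by
  classical
  have ht : t ∈ Submodule.span R (Set.range (SymmetricPower.tprod R (ι := ι) (M := J.Cotangent))) := by
    rw [SymmetricPower.span_tprod_eq_top]; trivial
  induction ht using Submodule.span_induction with
  | mem y hy =>
    obtain ⟨x, rfl⟩ := hy
    obtain ⟨j⟩ := ‹Nonempty ι›
    have h0 : a • x j = 0 := by
      obtain ⟨w, hw⟩ := Ideal.toCotangent_surjective J (x j)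
      rw [← hw, ← map_smul, Ideal.toCotangent_eq_zero, pow_two]
      exact Ideal.mul_mem_mul ha w.2
    conv_lhs => rw [← Function.update_eq_self j x, ← MultilinearMap.map_update_smul, h0,
      MultilinearMap.map_update_zero]
  | zero => rw [smul_zero]
  | add u v _ _ hu hv => rw [smul_add, hu, hv, add_zero]
  | smul c u _ hu => rw [smul_comm, hu, smul_zero]

end Groth.Agent.H06QR
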