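import Groth.Agent.H06QR.Criterion

/-! Symmetric powers over `R` of a projective `R ⧸ J`-module. -/

set_option autoImplicit false

open scoped BigOperators

namespace Groth.Agent.H06QR

universe u

variable {R : Type u} [CommRing R] {J : Ideal R}

/-- A projective conormal module makes the symmetric powers embed in polynomials over `R ⧸ J`. -/
theorem eval_injective_of_retraction {ι : Type u} [Fintype ι] [Nonempty ι] {σ : Type*}
    (s : J.Cotangent →ₗ[R ⧸ J] (σ →₀ R ⧸ J)) (e : σ → J.Cotangent)
    (hs : ∀ x, Finsupp.linearCombination (R ⧸ J) e (s x) = x) :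
    Function.Injective (H06PP.SymPow.eval (ι := ι)
      ((Finsupp.linearCombination (R ⧸ J) (fun i => (MvPolynomial.X i : MvPolynomial σ (R ⧸ J))) ∘ₗ s).restrictScalars R)) := by
  classical
  let L := (Finsupp.linearCombination (R ⧸ J) (fun i => (MvPolynomial.X i : MvPolynomial σ (R ⧸ J))) ∘ₗ s).restrictScalars R
  refine LinearMap.ker_eq_bot.mp ((Submodule.eq_bot_iff _).mpr fun t ht => ?_)
  -- degree-indexed products of the chosen generators
  let deg : (ι → σ) → σ →₀ ℕ := fun q => ∑ i, Finsupp.single (q i) 1
  let T : (σ →₀ ℕ) → SymmetricPower R ι J.Cotangent := fun d =>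
    if h : ∃ q, deg q = d then SymmetricPower.tprod R fun i => e (h.choose i) else 0
  have hT : ∀ q, SymmetricPower.tprod R (fun i => e (q i)) = T (deg q) := fun q => by
    have h : ∃ q', deg q' = deg q := ⟨q, rfl⟩
    rw [show T (deg q) = SymmetricPower.tprod R fun i => e (h.choose i) from dif_pos h]
    refine H06PP.SymPow.tprod_eq_of_count_eq e fun a => ?_
    rw [← H06PP.SymPow.sum_single_apply q a, ← H06PP.SymPow.sum_single_apply h.choose a]
    exact (DFunLike.congr_fun h.choose_spec a).symm
  have hJ : ∀ {a b : R}, Ideal.Quotient.mk J a = Ideal.Quotient.mk J b →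
      ∀ y : SymmetricPower R ι J.Cotangent, a • y = b • y := fun h y => by
    rw [← sub_eq_zero, ← sub_smul]
    exact smul_eq_zero_of_mem ((Ideal.Quotient.mk_eq_mk_iff_sub_mem _ _).mp h) y
  let c₀ : R ⧸ J → R := fun c => (Ideal.Quotient.mk_surjective c).choose
  have hc₀ : ∀ c, Ideal.Quotient.mk J (c₀ c) = c := fun c => (Ideal.Quotient.mk_surjective c).choose_spec
  let V : MvPolynomial σ (R ⧸ J) →+ SymmetricPower R ι J.Cotangent :=
    AddMonoidHom.comp (Finsupp.liftAddHom fun d => AddMonoidHom.mk' (fun c => c₀ c • T d) fun a b => by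
      rw [← add_smul]
      exact hJ (by rw [map_add, hc₀, hc₀, hc₀]) _) AddMonoidAlgebra.coeffAddEquiv.toAddMonoidHom
  have hV : ∀ (d : σ →₀ ℕ) (a : R), V (MvPolynomial.monomial d (Ideal.Quotient.mk J a)) = a • T d := fun d a => by
    refine (Finsupp.liftAddHom_apply_single _ d _).trans ?_
    exact hJ (hc₀ _) _
  have hVsmul : ∀ (a : R) (F : MvPolynomial σ (R ⧸ J)), V (a • F) = a • V F := by
    intro a F
    induction F using MvPolynomial.induction_on' with
    | monomial d c =>
      obtain ⟨c, rfl⟩ := Ideal.Quotient.mk_surjective c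
      rw [MvPolynomial.smul_monomial, show a • Ideal.Quotient.mk J c = Ideal.Quotient.mk J (a * c) from rfl,
        hV, hV, mul_smul]
    | add p q hp hq => rw [smul_add, map_add, map_add, hp, hq, smul_add]
  have key : ∀ t : SymmetricPower R ι J.Cotangent, V (H06PP.SymPow.eval L t) = t := by
    intro t
    have ht : t ∈ Submodule.span R (Set.range (SymmetricPower.tprod R (ι := ι) (M := J.Cotangent))) := by
      rw [SymmetricPower.span_tprod_eq_top]; trivial
    induction ht using Submodule.span_induction with
    | mem y hy =>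
      obtain ⟨x, rfl⟩ := hy
      rw [H06PP.SymPow.eval_tprod]
      choose a ha using fun i j => Ideal.Quotient.mk_surjective ((s (x i)) j)
      have hx : ∀ i, x i = ∑ j ∈ (s (x i)).support, a i j • e j := fun i => by
        conv_lhs => rw [← hs (x i), Finsupp.linearCombination_apply, Finsupp.sum]
        exact Finset.sum_congr rfl fun j _ => by rw [← ha]; rfl
      have hL : ∀ i, L (x i) = ∑ j ∈ (s (x i)).support, a i j • MvPolynomial.X j := fun i => by
        show Finsupp.linearCombination (R ⧸ J) _ (s (x i)) = _
        rw [Finsupp.linearCombination_apply, Finsupp.sum]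
        exact Finset.sum_congr rfl fun j _ => by rw [← ha]; exact algebraMap_smul (R ⧸ J) (a i j) _
      conv_rhs => rw [funext hx, MultilinearMap.map_sum_finset]
      rw [Finset.prod_congr rfl fun i _ => hL i, Finset.prod_univ_sum, map_sum]
      refine Finset.sum_congr rfl fun q _ => ?_
      rw [MultilinearMap.map_smul_univ (SymmetricPower.tprod R) (fun i => a i (q i)) fun i => e (q i), hT,
        show (∏ i, a i (q i) • (MvPolynomial.X (q i) : MvPolynomial σ (R ⧸ J))) =
          (∏ i, a i (q i)) • MvPolynomial.monomial (deg q) (Ideal.Quotient.mk J 1) by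
          rw [map_one, Finset.prod_smul, H06PP.SymPow.prod_X_eq_monomial], hVsmul, hV, one_smul]
    | zero => rw [map_zero, map_zero]
    | add u v _ _ hu hv => rw [map_add, map_add, hu, hv]
    | smul c u _ hu => rw [map_smul, hVsmul, hu]
  rw [← key t, LinearMap.mem_ker.mp ht, map_zero]

end Groth.Agent.H06QR
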