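import Groth.Agent.H06QR.Local
import Mathlib.LinearAlgebra.Matrix.Rank
import Mathlib.Algebra.Module.Projective

/-! The criterion: quasi-regular ideals are those with projective conormal module and bijective
symmetric algebra comparison. -/

set_option autoImplicit false

open scoped BigOperators

namespace Groth.Agent.H06QR

universe u

variable {R : Type u} [CommRing R] {J : Ideal R}

theorem projective_of_charts
    (h : ∀ (P : Ideal R) [P.IsPrime], J ≤ P → ∃ g, g ∉ P ∧ ∃ (r : ℕ) (f : Fin r → R), IsChart J g f) :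
    Module.Projective (R ⧸ J) J.Cotangent := by
  classical
  obtain ⟨n, e, he⟩ : ∃ (n : ℕ) (e : Fin n → R), Ideal.span (Set.range e) = J :=
    Submodule.fg_iff_exists_fin_generating_family.mp (fg_of_charts h)
  have heJ : ∀ i, e i ∈ J := fun i => he.le (Ideal.subset_span ⟨i, rfl⟩)
  let ē : Fin n → J.Cotangent := fun i => J.toCotangent ⟨e i, heJ i⟩
  let π₀ : (Fin n → R ⧸ J) →ₗ[R ⧸ J] J.Cotangent := Fintype.linearCombination (R ⧸ J) ē
  have hπ : Function.Surjective π₀ := fun x => by
    obtain ⟨⟨x, hx⟩, rfl⟩ := Ideal.toCotangent_surjective J x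
    obtain ⟨a, ha⟩ := Ideal.mem_span_range_iff_exists_fun.mp (he.ge hx)
    refine ⟨fun i => Ideal.Quotient.mk J (a i), ?_⟩
    rw [Fintype.linearCombination_apply,
      show (⟨x, hx⟩ : ↥J) = ∑ i, a i • ⟨e i, heJ i⟩ from Subtype.ext (by
        rw [Submodule.coe_sum]; exact ha.symm), map_sum]
    exact Finset.sum_congr rfl fun i _ => (map_smul J.toCotangent (a i) _).symm
  have hK : (LinearMap.ker π₀).FG := by
    refine fg_of_cover fun P' _ => ?_
    let Q := P'.comap (Ideal.Quotient.mk J)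
    obtain ⟨g, hg, r, f, hf⟩ := h Q fun a ha => by
      show Ideal.Quotient.mk J a ∈ P'
      rw [Ideal.Quotient.eq_zero_iff_mem.mpr ha]
      exact zero_mem P'
    let q : R →+* R ⧸ J := Ideal.Quotient.mk J
    have hqs : ∀ (a : R) (x : J.Cotangent), q a • x = a • x := fun _ _ => rfl
    choose φf hφf using fun i => hπ (J.toCotangent ⟨f i, hf.1 i⟩)
    choose N a ha using fun j => chart_generate_cotangent hf (ē j)
    let N₀ := ∑ j, N j
    choose M hM using fun j => Nat.exists_eq_add_of_le (Finset.single_le_sum (fun i _ => Nat.zero_le (N i))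
      (Finset.mem_univ j) : N j ≤ N₀)
    let k : Fin n → (Fin n → R ⧸ J) := fun j =>
      Pi.single j (q g ^ N₀) - ∑ i, q (g ^ M j * a j i) • φf i
    have hk : ∀ j, π₀ (k j) = 0 := fun j => by
      rw [map_sub, map_sum, Fintype.linearCombination_apply_single, sub_eq_zero, ← map_pow, hqs, show N₀ = N j + M j from hM j,
        add_comm, pow_add, mul_smul, ha, Finset.smul_sum]
      refine Finset.sum_congr rfl fun i _ => ?_
      rw [map_smul, hφf, hqs, mul_smul]
    refine ⟨Ideal.Quotient.mk J g, hg, Finset.univ.image k, ?_, fun b hb => ?_⟩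
    · rw [Finset.coe_image]
      rintro _ ⟨j, -, rfl⟩
      exact hk j
    · let S : Submodule (R ⧸ J) (Fin n → R ⧸ J) :=
        Submodule.span (R ⧸ J) ((Finset.univ.image k : Finset (Fin n → R ⧸ J)) : Set (Fin n → R ⧸ J))
      let c : Fin r → R ⧸ J := fun i => ∑ j, b j * q (g ^ M j * a j i)
      have hsplit : q g ^ N₀ • b = ∑ j, b j • k j + ∑ i, c i • φf i := by
        simp only [k, smul_sub, Finset.sum_sub_distrib, Finset.smul_sum, smul_smul, c, Finset.sum_smul]
        rw [Finset.sum_comm (f := fun i j => (b j * q (g ^ M j * a j i)) • φf i), sub_add_cancel]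
        ext l
        simp [Finset.sum_apply, Pi.single_apply, mul_comm]
      have hc0 : ∑ i, c i • J.toCotangent ⟨f i, hf.1 i⟩ = 0 := by
        have := congrArg π₀ hsplit
        rw [map_smul, LinearMap.mem_ker.mp hb, smul_zero, map_add, map_sum,
          Finset.sum_eq_zero (fun j _ => by rw [map_smul, hk, smul_zero]), zero_add, map_sum] at this
        rw [this]
        exact Finset.sum_congr rfl fun i _ => by rw [map_smul, hφf]
      choose c' hc' using fun i => Ideal.Quotient.mk_surjective (c i)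
      obtain ⟨L, hL⟩ := chart_relation hf (a := c') (by simpa only [← hc', hqs, q] using hc0)
      refine ⟨L + N₀, ?_⟩
      show q g ^ (L + N₀) • b ∈ S
      rw [pow_add, mul_smul, hsplit, smul_add, Finset.smul_sum, Finset.smul_sum]
      refine add_mem (Submodule.sum_mem _ fun j _ => ?_) (Submodule.sum_mem _ fun i _ => ?_)
      · exact Submodule.smul_mem _ _ (Submodule.smul_mem _ _ (Submodule.subset_span
          (Finset.mem_coe.mpr (Finset.mem_image_of_mem k (Finset.mem_univ j)))))
      · rw [smul_smul, ← hc', ← map_pow, ← map_mul, Ideal.Quotient.eq_zero_iff_mem.mpr (hL i), zero_smul]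
        exact zero_mem _
  -- local data
  have hloc : ∀ (P : Ideal R) [P.IsPrime], J ≤ P → ∃ g, g ∉ P ∧
      ∃ s : J.Cotangent →ₗ[R ⧸ J] (Fin n → R ⧸ J), ∀ x, π₀ (s x) = (Ideal.Quotient.mk J g) • x := by
    intro P _ hJP
    obtain ⟨g, hg, r, f, hf⟩ := h P hJP
    let q : R →+* R ⧸ J := Ideal.Quotient.mk J
    have hqs : ∀ (a : R) (x : J.Cotangent), q a • x = a • x := fun _ _ => rfl
    choose N a ha using fun j => chart_generate_cotangent hf (ē j)
    let v : Fin r → J.Cotangent := fun i => J.toCotangent ⟨f i, hf.1 i⟩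
    choose φf hφf using fun i => hπ (v i)
    let N₀ := ∑ j, N j
    choose M hM using fun j => Nat.exists_eq_add_of_le (Finset.single_le_sum (fun i _ => Nat.zero_le (N i))
      (Finset.mem_univ j) : N j ≤ N₀)
    let A : Fin n → Fin r → R ⧸ J := fun j i => q (g ^ M j * a j i)
    have hA : ∀ j, q g ^ N₀ • ē j = ∑ i, A j i • v i := fun j => by
      rw [← map_pow, hqs, show N₀ = N j + M j from hM j, add_comm, pow_add, mul_smul, ha, Finset.smul_sum]
      simp only [A, hqs, mul_smul]
      rfl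
    let ψ₀ : (Fin n → R ⧸ J) →ₗ[R ⧸ J] (Fin r → R ⧸ J) := Fintype.linearCombination (R ⧸ J) A
    let θ : (Fin r → R ⧸ J) →ₗ[R ⧸ J] (Fin n → R ⧸ J) := Fintype.linearCombination (R ⧸ J) φf
    have hθ : ∀ b, π₀ (θ (ψ₀ b)) = q g ^ N₀ • π₀ b := LinearMap.congr_fun
      (show π₀ ∘ₗ θ ∘ₗ ψ₀ = q g ^ N₀ • π₀ from (Pi.basisFun (R ⧸ J) (Fin n)).ext fun j => by
        simp only [LinearMap.comp_apply, LinearMap.smul_apply, Pi.basisFun_apply, ψ₀, θ,
          Fintype.linearCombination_apply_single, one_smul]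
        rw [show π₀ (Pi.single j (1 : R ⧸ J)) = ē j by simp [π₀, Fintype.linearCombination_apply_single], hA]
        show π₀ (∑ i, A j i • φf i) = _
        rw [map_sum]
        exact Finset.sum_congr rfl fun i _ => by rw [map_smul]; exact congrArg _ (hφf i))
    -- the kernel of ψ₀ on relations is torsion, uniformly
    have hrel : ∀ b, π₀ b = 0 → ∃ L : ℕ, q g ^ L • ψ₀ b = 0 := by
      intro b hb
      choose c hc using fun i => Ideal.Quotient.mk_surjective (ψ₀ b i)
      have h0 : ∑ i, c i • v i = 0 := by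
        have := hθ b
        rw [hb, smul_zero] at this
        rw [← this]
        simp only [θ, Fintype.linearCombination_apply, map_sum, map_smul]
        refine Finset.sum_congr rfl fun i _ => ?_
        rw [← hc, ← hqs, ← hφf i, Fintype.linearCombination_apply]
      obtain ⟨L, hL⟩ := chart_relation hf h0
      refine ⟨L, funext fun i => ?_⟩
      rw [Pi.smul_apply, smul_eq_mul, ← hc, ← map_pow, ← map_mul, Pi.zero_apply]
      exact Ideal.Quotient.eq_zero_iff_mem.mpr (hL i)
    obtain ⟨T, hT⟩ := hK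
    choose L hL using fun b : T => hrel b.1 (LinearMap.mem_ker.mp (hT ▸ Submodule.subset_span b.2))
    let L₀ := ∑ b : T, L b
    have hker : LinearMap.ker π₀ ≤ LinearMap.ker (q g ^ L₀ • ψ₀) := by
      rw [← hT, Submodule.span_le]
      intro b hb
      obtain ⟨d, hd⟩ := Nat.exists_eq_add_of_le (Finset.single_le_sum (fun i _ => Nat.zero_le (L i))
        (Finset.mem_univ (⟨b, hb⟩ : T)) : L ⟨b, hb⟩ ≤ L₀)
      rw [SetLike.mem_coe, LinearMap.mem_ker, LinearMap.smul_apply, show L₀ = L ⟨b, hb⟩ + d from hd, add_comm, pow_add, mul_smul,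
        hL ⟨b, hb⟩, smul_zero]
    let ψ : J.Cotangent →ₗ[R ⧸ J] (Fin r → R ⧸ J) :=
      (Submodule.liftQ _ (q g ^ L₀ • ψ₀) hker) ∘ₗ (π₀.quotKerEquivOfSurjective hπ).symm.toLinearMap
    refine ⟨g ^ (L₀ + N₀), fun hgp => hg (Ideal.IsPrime.mem_of_pow_mem ‹_› _ hgp), θ ∘ₗ ψ, fun x => ?_⟩
    obtain ⟨b, rfl⟩ := hπ x
    have hψ : ψ (π₀ b) = q g ^ L₀ • ψ₀ b := by
      show Submodule.liftQ _ _ hker ((π₀.quotKerEquivOfSurjective hπ).symm (π₀ b)) = _
      rw [show (π₀.quotKerEquivOfSurjective hπ).symm (π₀ b) = Submodule.Quotient.mk b from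
        (LinearEquiv.symm_apply_eq _).mpr rfl]
      rfl
    rw [LinearMap.comp_apply, hψ, map_smul, map_smul, hθ, map_pow, pow_add, mul_smul]
  -- glue
  let G : Set (R ⧸ J) := {a | ∃ s : J.Cotangent →ₗ[R ⧸ J] (Fin n → R ⧸ J), ∀ x, π₀ (s x) = a • x}
  have hG : Ideal.span G = ⊤ := span_eq_top_of_cover fun P hP => by
    let Q := P.comap (Ideal.Quotient.mk J)
    obtain ⟨g, hg, hs⟩ := hloc Q fun a ha => by
      show Ideal.Quotient.mk J a ∈ P
      rw [Ideal.Quotient.eq_zero_iff_mem.mpr ha]
      exact zero_mem P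
    exact ⟨Ideal.Quotient.mk J g, hs, hg⟩
  suffices ∀ a ∈ Ideal.span G, ∃ s : J.Cotangent →ₗ[R ⧸ J] (Fin n → R ⧸ J), ∀ x, π₀ (s x) = a • x by
    obtain ⟨s, hs⟩ := this 1 (by rw [hG]; trivial)
    exact Module.Projective.of_split s π₀ (LinearMap.ext fun x => by rw [LinearMap.comp_apply, hs, one_smul]; rfl)
  intro a ha
  induction ha using Submodule.span_induction with
  | mem y hy => exact hy
  | zero => exact ⟨0, fun x => by simp⟩
  | add u w _ _ hu hw =>
    obtain ⟨s, hs⟩ := hu
    obtain ⟨s', hs'⟩ := hw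
    exact ⟨s + s', fun x => by rw [LinearMap.add_apply, map_add, hs, hs', add_smul]⟩
  | smul c u _ hu =>
    obtain ⟨s, hs⟩ := hu
    exact ⟨c • s, fun x => by rw [LinearMap.smul_apply, map_smul, hs, smul_eq_mul, mul_smul]⟩

/-- Finite projective modules are free on a basic open neighbourhood, elementarily. -/
theorem exists_local_basis {S M : Type*} [CommRing S] [AddCommGroup M] [Module S M] [Module.Finite S M]
    [Module.Projective S M] (p : Ideal S) [hp : p.IsPrime] :
    ∃ (g : S) (r : ℕ) (w : Fin r → M) (ψ : M →ₗ[S] (Fin r → S)), g ∉ p ∧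
      (∀ i, ψ (w i) = Pi.single i g) ∧ ∀ x : M, g • x = ∑ i, ψ x i • w i := by
  classical
  obtain ⟨n, π, hπ⟩ := Module.Finite.exists_fin' S M
  obtain ⟨s, hs⟩ := Module.projective_lifting_property π LinearMap.id hπ
  have hs' : ∀ x, π (s x) = x := fun x => LinearMap.congr_fun hs x
  let φ : Fin n → M →ₗ[S] S := fun a => LinearMap.proj a ∘ₗ s
  let e : Fin n → M := fun a => π (Pi.single a 1)
  have he : ∀ x, x = ∑ a, φ a x • e a := fun x => by
    conv_lhs => rw [← hs' x, pi_eq_sum_univ' (s x)]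
    rw [map_sum]
    exact Finset.sum_congr rfl fun a _ => by rw [map_smul]; rfl
  -- a maximal minor
  let C : ℕ → Prop := fun r => ∃ (w : Fin r → M) (ψ : M →ₗ[S] (Fin r → S)),
    (Matrix.of fun i j => ψ (w j) i).det ∉ p
  have hC0 : C 0 := ⟨Fin.elim0, 0, by simpa using hp.one_notMem⟩
  have hbd : ∀ r, C r → r ≤ n := by
    rintro r ⟨w, ψ, hd⟩
    by_contra hrn
    apply hd
    have hfac : (Matrix.of fun i j => ψ (w j) i) =
        (Matrix.of fun i a => ψ (e a) i) * Matrix.of fun a j => φ a (w j) := by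
      ext i j
      rw [Matrix.mul_apply, Matrix.of_apply]
      conv_lhs => rw [he (w j), map_sum, Finset.sum_apply]
      exact Finset.sum_congr rfl fun a _ => by rw [map_smul]; exact mul_comm _ _
    let q := algebraMap (S ⧸ p) (FractionRing (S ⧸ p))
    let qq : S →+* FractionRing (S ⧸ p) := q.comp (Ideal.Quotient.mk p)
    rw [← Ideal.Quotient.eq_zero_iff_mem]
    refine IsFractionRing.injective (S ⧸ p) (FractionRing (S ⧸ p)) ?_
    show qq _ = q 0
    rw [map_zero, RingHom.map_det, hfac, RingHom.mapMatrix_apply, Matrix.map_mul]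
    by_contra hne
    have h1 := Matrix.rank_of_isUnit _ ((Matrix.isUnit_iff_isUnit_det _).mpr (isUnit_iff_ne_zero.mpr hne))
    have h2 := (Matrix.rank_mul_le_left ((Matrix.of fun i a => ψ (e a) i).map qq)
      ((Matrix.of fun a j => φ a (w j)).map qq)).trans (Matrix.rank_le_width _)
    rw [h1, Fintype.card_fin] at h2
    omega
  obtain ⟨r, hr, hmax⟩ : ∃ r, C r ∧ ¬ C (r + 1) := by
    by_contra hcon
    have : ∀ r, C r := fun r => Nat.rec hC0 (fun r hr => not_not.mp fun h => hcon ⟨r, hr, h⟩) r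
    exact absurd (hbd _ (this (n + 1))) (by omega)
  obtain ⟨w, ψ, hΔ⟩ := hr
  let D : Matrix (Fin r) (Fin r) S := Matrix.of fun i j => ψ (w j) i
  let Δ := D.det
  let ψ' : M →ₗ[S] (Fin r → S) := D.adjugate.mulVecLin ∘ₗ ψ
  have hψ' : ∀ i, ψ' (w i) = Pi.single i Δ := fun i => by
    show D.adjugate.mulVec (ψ (w i)) = _
    rw [show ψ (w i) = D.mulVec (Pi.single i 1) from funext fun k => by simp [D],
      Matrix.mulVec_mulVec, Matrix.adjugate_mul, Matrix.smul_mulVec, Matrix.one_mulVec, ← Pi.single_smul,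
      smul_eq_mul, mul_one]
  let T : M →ₗ[S] M := Δ • LinearMap.id - ∑ i, (LinearMap.proj i ∘ₗ ψ').smulRight (w i)
  have hTx : ∀ x, T x = Δ • x - ∑ i, ψ' x i • w i := fun x => by simp [T]
  have hψT : ∀ x, ψ' (T x) = 0 := fun x => by
    rw [hTx, map_sub, map_smul, map_sum]
    simp only [map_smul, hψ']
    ext k
    simp [Finset.sum_apply, Pi.single_apply, mul_comm]
  have hψT0 : ∀ x, Δ • ψ (T x) = 0 := fun x => by
    have := congrArg D.mulVec (hψT x)
    rw [show ψ' (T x) = D.adjugate.mulVec (ψ (T x)) from rfl, Matrix.mulVec_mulVec, Matrix.mul_adjugate,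
      Matrix.smul_mulVec, Matrix.one_mulVec, Matrix.mulVec_zero] at this
    exact this
  have hTp : ∀ (η : M →ₗ[S] S) (x : M), η (T x) ∈ p := by
    intro η x
    have hmax' : (Matrix.of fun i j =>
        (Matrix.vecCons η fun i => LinearMap.proj i ∘ₗ ψ : Fin (r + 1) → M →ₗ[S] S) i
          (Matrix.vecCons (T x) w j)).det ∈ p := by
      by_contra hd
      exact hmax ⟨Matrix.vecCons (T x) w, LinearMap.pi (Matrix.vecCons η fun i => (LinearMap.proj i : (Fin r → S) →ₗ[S] S) ∘ₗ ψ), hd⟩
    rw [← Ideal.Quotient.eq_zero_iff_mem]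
    rw [← Ideal.Quotient.eq_zero_iff_mem, RingHom.map_det] at hmax'
    have hcol : ∀ k, Ideal.Quotient.mk p (ψ (T x) k) = 0 := fun k => by
      rw [Ideal.Quotient.eq_zero_iff_mem]
      refine (hp.mem_or_mem ?_).resolve_left hΔ
      have := congrFun (hψT0 x) k
      rw [Pi.smul_apply, smul_eq_mul, Pi.zero_apply] at this
      rw [this]
      exact zero_mem p
    rw [Matrix.det_succ_column_zero, Fin.sum_univ_succ, Finset.sum_eq_zero fun k _ => ?_, add_zero] at hmax'
    · simp only [Fin.val_zero, pow_zero, one_mul, RingHom.mapMatrix_apply, Matrix.map_apply, Matrix.of_apply,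
        Matrix.cons_val_zero, Fin.succAbove_zero] at hmax'
      refine (mul_eq_zero.mp hmax').resolve_right fun h0 => hΔ ?_
      rw [← Ideal.Quotient.eq_zero_iff_mem, ← h0, RingHom.map_det]
      rfl
    · simp only [RingHom.mapMatrix_apply, Matrix.map_apply, Matrix.of_apply, Matrix.cons_val_zero,
        Matrix.cons_val_succ]
      show _ * Ideal.Quotient.mk p (ψ (T x) k) * _ = 0
      rw [hcol, mul_zero, zero_mul]
  let E : Matrix (Fin n) (Fin n) S := Matrix.of fun a b => φ a (T (e b))
  have hTT : ∀ x, T (T x) = Δ • T x := fun x => by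
    rw [hTx (T x), hψT]
    simp
  have hEE : E * E = Δ • E := by
    ext a b
    rw [Matrix.mul_apply, Matrix.smul_apply, smul_eq_mul]
    show ∑ c, φ a (T (e c)) * φ c (T (e b)) = Δ * φ a (T (e b))
    rw [← smul_eq_mul Δ, ← map_smul, ← hTT]
    conv_rhs => rw [he (T (e b)), map_sum, map_sum]
    exact Finset.sum_congr rfl fun c _ => by rw [map_smul, map_smul, smul_eq_mul, mul_comm]
  let h := (Δ • (1 : Matrix (Fin n) (Fin n) S) - E).det
  have hh : h ∉ p := by
    rw [← Ideal.Quotient.eq_zero_iff_mem, RingHom.map_det]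
    have hE0 : (Ideal.Quotient.mk p).mapMatrix E = 0 := by
      ext a b
      exact Ideal.Quotient.eq_zero_iff_mem.mpr (hTp (φ a) (e b))
    rw [map_sub, hE0, sub_zero, RingHom.mapMatrix_apply,
      show (Δ • (1 : Matrix (Fin n) (Fin n) S)).map (Ideal.Quotient.mk p) =
        Ideal.Quotient.mk p Δ • (1 : Matrix (Fin n) (Fin n) (S ⧸ p)) by
        ext a b
        simp [Matrix.one_apply, apply_ite (Ideal.Quotient.mk p)],
      Matrix.det_smul, Matrix.det_one, mul_one]
    exact pow_ne_zero _ fun h0 => hΔ (Ideal.Quotient.eq_zero_iff_mem.mp h0)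
  have hhE : h • E = 0 := by
    have := congrArg ((Δ • (1 : Matrix (Fin n) (Fin n) S) - E).adjugate * ·)
      (show (Δ • (1 : Matrix (Fin n) (Fin n) S) - E) * E = 0 by
        rw [sub_mul, smul_mul_assoc, one_mul, hEE, sub_self])
    rwa [← mul_assoc, Matrix.adjugate_mul, smul_mul_assoc, one_mul, mul_zero] at this
  have hhT : ∀ x, h • T x = 0 := fun x => by
    have hzero : ∀ a b, h * φ a (T (e b)) = 0 := fun a b => congrFun (congrFun hhE a) b
    rw [he (T x), Finset.smul_sum]
    refine Finset.sum_eq_zero fun a _ => ?_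
    rw [smul_smul]
    conv_lhs => rw [he x]
    rw [map_sum, map_sum, Finset.mul_sum, Finset.sum_eq_zero fun b _ => ?_, zero_smul]
    rw [map_smul, map_smul, smul_eq_mul, mul_left_comm, hzero, mul_zero]
  refine ⟨h * Δ, r, w, h • ψ', fun hmem => (hp.mem_or_mem hmem).elim hh hΔ, fun i => ?_, fun x => ?_⟩
  · rw [LinearMap.smul_apply, hψ', ← Pi.single_smul, smul_eq_mul]
  · have := hhT x
    rw [hTx, smul_sub, sub_eq_zero, smul_smul, Finset.smul_sum] at this
    rw [this]
    exact Finset.sum_congr rfl fun i _ => smul_smul _ _ _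

theorem exists_chart (hfg : J.FG) [Module.Projective (R ⧸ J) J.Cotangent] (hS : PP16.SymGrBijective R J)
    (P : Ideal R) [hP : P.IsPrime] (hJP : J ≤ P) :
    ∃ g, g ∉ P ∧ ∃ (r : ℕ) (f : Fin r → R), IsChart J g f := by
  classical
  have : Module.Finite R ↥J := Module.Finite.iff_fg.mpr hfg
  have : Module.Finite R J.Cotangent :=
    Module.Finite.of_surjective J.toCotangent (Ideal.toCotangent_surjective J)
  have : Module.Finite (R ⧸ J) J.Cotangent := Module.Finite.of_restrictScalars_finite R _ _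
  have : (P.map (Ideal.Quotient.mk J)).IsPrime :=
    Ideal.map_isPrime_of_surjective Ideal.Quotient.mk_surjective (by rwa [Ideal.mk_ker])
  obtain ⟨g₀, r, w, ψ, hg₀, hψw, hgen⟩ :=
    exists_local_basis (M := J.Cotangent) (P.map (Ideal.Quotient.mk J))
  obtain ⟨g, rfl⟩ := Ideal.Quotient.mk_surjective g₀
  have hgP : g ∉ P := fun hg => hg₀ (Ideal.mem_map_of_mem _ hg)
  choose f hf using fun i => Ideal.toCotangent_surjective J (w i)
  let F : Fin r → R := fun i => f i
  let K : Ideal R := Ideal.span (Set.range F)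
  have hstep : ∀ x ∈ J, g * x ∈ K ⊔ J ^ 2 := by
    intro x hx
    choose c hc using fun i => Ideal.Quotient.mk_surjective (ψ (J.toCotangent ⟨x, hx⟩) i)
    have e : J.toCotangent (g • ⟨x, hx⟩) = J.toCotangent (∑ i, c i • f i) := by
      rw [map_smul, map_sum]
      refine (hgen (J.toCotangent ⟨x, hx⟩)).trans (Finset.sum_congr rfl fun i _ => ?_)
      rw [map_smul, hf, ← hc]
      rfl
    rw [Ideal.toCotangent_eq, Submodule.coe_sum] at e
    simp only [Submodule.coe_smul, smul_eq_mul] at e
    exact Submodule.mem_sup.mpr ⟨_, Submodule.sum_mem (t := Finset.univ) _ fun i _ =>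
      Ideal.mul_mem_left _ (c i) (Ideal.subset_span ⟨i, rfl⟩), _, e, add_sub_cancel _ _⟩
  -- determinant trick
  obtain ⟨h, hhP, hh⟩ : ∃ h, h ∉ P ∧ ∀ x ∈ J, h * x ∈ K := by
    let M := ↥J ⧸ (Submodule.comap J.subtype K)
    let T : Module.End R M := g • LinearMap.id
    have hrange : LinearMap.range T ≤ J • (⊤ : Submodule R M) := by
      rintro _ ⟨m, rfl⟩
      obtain ⟨⟨x, hx⟩, rfl⟩ := Submodule.Quotient.mk_surjective _ m
      obtain ⟨k, hk, j, hj, hkj⟩ := Submodule.mem_sup.mp (hstep x hx)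
      have hkJ : k ∈ J := Ideal.span_le.mpr (by rintro _ ⟨i, rfl⟩; exact (f i).2) hk
      have hjJ : j ∈ J := Ideal.pow_le_self two_ne_zero hj
      show g • (Submodule.Quotient.mk (⟨x, hx⟩ : ↥J) : M) ∈ _
      rw [← Submodule.Quotient.mk_smul,
        show g • (⟨x, hx⟩ : ↥J) = ⟨k, hkJ⟩ + ⟨j, hjJ⟩ from Subtype.ext hkj.symm, Submodule.Quotient.mk_add,
        show (Submodule.Quotient.mk ⟨k, hkJ⟩ : M) = 0 from (Submodule.Quotient.mk_eq_zero _).mpr hk, zero_add]
      rw [pow_two] at hj
      suffices ∀ j ∈ J * J, ∀ hj' : j ∈ J, (Submodule.Quotient.mk ⟨j, hj'⟩ : M) ∈ J • (⊤ : Submodule R M) from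
        this j hj hjJ
      intro j hj
      induction hj using Submodule.mul_induction_on' with
      | mem_mul_mem a ha b hb =>
        intro hj'
        rw [show (⟨a * b, hj'⟩ : ↥J) = a • ⟨b, hb⟩ from rfl, Submodule.Quotient.mk_smul]
        exact Submodule.smul_mem_smul ha trivial
      | add a ha b hb iha ihb =>
        intro hj'
        rw [show (⟨a + b, hj'⟩ : ↥J) = ⟨a, Ideal.mul_le_right ha⟩ + ⟨b, Ideal.mul_le_right hb⟩ from rfl,
          Submodule.Quotient.mk_add]
        exact add_mem (iha _) (ihb _)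
    obtain ⟨q, hq, -, hdeg, hq0⟩ :=
      LinearMap.exists_monic_and_natDegree_eq_and_coeff_mem_pow_and_aeval_eq_zero
      R T J hrange
    have hT : T = algebraMap R (Module.End R M) g := by
      ext m; simp [T, Algebra.algebraMap_eq_smul_one]
    rw [hT, Polynomial.aeval_algebraMap_apply] at hq0
    refine ⟨q.eval g, fun hmem => hgP ?_, fun x hx => ?_⟩
    · rw [Polynomial.eval_eq_sum_range, Finset.sum_range_succ, hq.coeff_natDegree, one_mul] at hmem
      refine hP.mem_of_pow_mem q.natDegree ?_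
      refine (Ideal.add_mem_iff_right _ ?_).mp hmem
      refine Ideal.sum_mem _ fun i hi => Ideal.mul_mem_right _ _ (hJP (Ideal.pow_le_self ?_ (hdeg i)))
      have := Finset.mem_range.mp hi
      omega
    · have := LinearMap.congr_fun hq0 (Submodule.Quotient.mk (⟨x, hx⟩ : ↥J))
      rw [Polynomial.coe_aeval_eq_eval, Module.algebraMap_end_apply, LinearMap.zero_apply,
        ← Submodule.Quotient.mk_smul] at this
      have h2 := (Submodule.Quotient.mk_eq_zero _).mp this
      exact h2
  refine ⟨g * h, fun hm => (hP.mem_or_mem hm).elim hgP hhP, r, F, fun i => (f i).2, fun x hx => ⟨1, ?_⟩,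
    fun k Q hQ he => ?_⟩
  · rw [pow_one, mul_assoc]
    exact Ideal.mul_mem_left _ _ (hh x hx)
  -- quasi-regularity from the injectivity
  suffices ∀ d, g ^ k * Q.coeff d ∈ J from ⟨k, fun d => by
    rw [mul_pow, mul_right_comm]; exact Ideal.mul_mem_right _ _ (this d)⟩
  intro d
  by_cases hd : d ∈ Q.support
  swap
  · rw [MvPolynomial.notMem_support_iff.mp hd, mul_zero]; exact zero_mem _
  rcases Nat.eq_zero_or_pos k with rfl | hk
  · have hQC : Q = MvPolynomial.C (Q.coeff 0) := MvPolynomial.totalDegree_eq_zero_iff_eq_C.mp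
      (Nat.le_zero.mp hQ.totalDegree_le)
    have hd0 : d = 0 := Finsupp.support_eq_empty.mp <| Finset.eq_empty_of_forall_notMem fun i hi =>
      Finsupp.mem_support_iff.mp hi (Finset.sum_eq_zero_iff.mp (hQ.degree_eq_sum_deg_support hd).symm i hi)
    subst hd0
    rw [pow_zero, one_mul]
    rw [hQC, MvPolynomial.eval_C, zero_add, pow_one] at he
    exact he
  · obtain ⟨ι, _, rfl⟩ : ∃ (ι : Type u) (_ : Fintype ι), Fintype.card ι = k :=
      ⟨ULift.{u} (Fin k), inferInstance, by simp⟩
    have : Nonempty ι := Fintype.card_pos_iff.mp hk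
    choose q hq using fun e : Q.support => H06PP.SymPow.exists_sum_single (ι := ι) (e : Fin r →₀ ℕ)
      ((hQ.degree_eq_sum_deg_support e.2).symm)
    let t : SymmetricPower R ι J.Cotangent :=
      ∑ e : Q.support, Q.coeff (e : Fin r →₀ ℕ) • SymmetricPower.tprod R fun i => w (q e i)
    have hterm : ∀ e : Q.support, phiJ (SymmetricPower.tprod R fun i => w (q e i)) =
        PP16.zetaJ R J fun i => f (q e i) := fun e => by
      rw [← phiJ_tprod]; simp only [hf]
    have hevm : ∀ e : Q.support, MvPolynomial.eval F (MvPolynomial.monomial (e : Fin r →₀ ℕ) 1) =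
        ∏ i, (f (q e i) : R) := fun e => by
      rw [← hq e, ← H06PP.SymPow.prod_X_eq_monomial, map_prod]; simp [F]
    have ht : phiJ t = 0 := by
      simp only [t, map_sum, map_smul, hterm]
      show ∑ e : Q.support, Q.coeff (e : Fin r →₀ ℕ) • Submodule.mkQ _ _ = 0
      simp only [← map_smul, ← map_sum]
      refine (Submodule.Quotient.mk_eq_zero _).mpr ?_
      show (Subtype.val _ : R) ∈ J ^ (Fintype.card ι + 1)
      rw [Submodule.coe_sum]
      refine (Eq.subst (motive := fun y => y ∈ J ^ (Fintype.card ι + 1)) ?_ he)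
      conv_lhs => rw [MvPolynomial.as_sum Q, map_sum, ← Finset.sum_coe_sort Q.support]
      refine Finset.sum_congr rfl fun e _ => ?_
      rw [← mul_one (Q.coeff _), ← MvPolynomial.C_mul_monomial, map_mul, MvPolynomial.eval_C, hevm, mul_one]
      rfl
    have ht0 : t = 0 := phiJ_injective hS (ht.trans (map_zero (phiJ (J := J) (ι := ι))).symm)
    let Λ : J.Cotangent →ₗ[R] MvPolynomial (Fin r) (R ⧸ J) :=
      (Fintype.linearCombination (R ⧸ J) (fun i => (MvPolynomial.X i : MvPolynomial (Fin r) (R ⧸ J))) ∘ₗ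
        ψ).restrictScalars R
    have hΛ : ∀ i, Λ (w i) = MvPolynomial.C (Ideal.Quotient.mk J g) * MvPolynomial.X i := fun i => by
      show Fintype.linearCombination (R ⧸ J) _ (ψ (w i)) = _
      rw [hψw, Fintype.linearCombination_apply_single, MvPolynomial.smul_eq_C_mul]
    have h1 : H06PP.SymPow.eval Λ t = ∑ e : Q.support, MvPolynomial.monomial (e : Fin r →₀ ℕ)
        (Ideal.Quotient.mk J (g ^ Fintype.card ι * Q.coeff (e : Fin r →₀ ℕ))) := by
      simp only [t, map_sum, map_smul]
      refine Finset.sum_congr rfl fun e _ => ?_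
      rw [H06PP.SymPow.eval_tprod]
      simp only [hΛ, Finset.prod_mul_distrib, Finset.prod_const, Finset.card_univ,
        H06PP.SymPow.prod_X_eq_monomial, hq, ← map_pow]
      rw [MvPolynomial.C_mul_monomial, mul_one, MvPolynomial.smul_monomial, map_mul,
        mul_comm (Ideal.Quotient.mk J (g ^ Fintype.card ι))]
      rfl
    rw [ht0, map_zero] at h1
    have h2 := congrArg (MvPolynomial.coeff d) h1
    rw [MvPolynomial.coeff_zero, MvPolynomial.coeff_sum] at h2
    simp only [MvPolynomial.coeff_monomial] at h2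
    rw [Finset.sum_eq_single (⟨d, hd⟩ : Q.support)] at h2
    · rw [if_pos rfl] at h2
      exact Ideal.Quotient.eq_zero_iff_mem.mp h2.symm
    · intro e _ hne
      rw [if_neg fun he' => hne (Subtype.ext he')]
    · intro hnot; exact absurd (Finset.mem_univ _) hnot

end Groth.Agent.H06QR
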