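import Groth.Agent.H06QR.Graded
import Mathlib.LinearAlgebra.Matrix.Charpoly.LinearMap
import Mathlib.LinearAlgebra.Matrix.Adjugate
import Mathlib.RingTheory.Localization.Ideal

/-! Charts for quasi-regular ideals, phrased without localizations. -/

set_option autoImplicit false

open scoped BigOperators

namespace Groth.Agent.H06QR

universe u

variable {R : Type u} [CommRing R] {J : Ideal R}

/-- `f` is a quasi-regular system of generators of `J` on the basic open set of `g`. -/
def IsChart (J : Ideal R) (g : R) {r : ℕ} (f : Fin r → R) : Prop :=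
  (∀ i, f i ∈ J) ∧ (∀ x ∈ J, ∃ N : ℕ, g ^ N * x ∈ Ideal.span (Set.range f)) ∧
    ∀ (k : ℕ) (P : MvPolynomial (Fin r) R), P.IsHomogeneous k →
      MvPolynomial.eval f P ∈ J ^ (k + 1) → ∃ N : ℕ, ∀ d, g ^ N * P.coeff d ∈ J

theorem exists_chart_iff_away (g : R) :
    (∃ (r : ℕ) (f : Fin r → Localization.Away g), CAlgX.IsQuasiRegular f ∧
      Ideal.span (Set.range f) = J.map (algebraMap R (Localization.Away g))) ↔
    ∃ (r : ℕ) (f : Fin r → R), IsChart J g f := by
  classical
  let L := Localization.Away g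
  let φ := algebraMap R L
  have hpow : ∀ (I : Ideal R) {x : R}, φ x ∈ I.map φ ↔ ∃ N : ℕ, g ^ N * x ∈ I := fun I x => by
    rw [IsLocalization.algebraMap_mem_map_algebraMap_iff (Submonoid.powers g)]
    constructor
    · rintro ⟨_, ⟨N, rfl⟩, h⟩; exact ⟨N, h⟩
    · rintro ⟨N, h⟩; exact ⟨_, ⟨N, rfl⟩, h⟩
  have heval : ∀ {r : ℕ} (f : Fin r → R) (P : MvPolynomial (Fin r) R),
      MvPolynomial.eval (φ ∘ f) (MvPolynomial.map φ P) = φ (MvPolynomial.eval f P) := fun f P =>
    (RingHom.congr_fun (MvPolynomial.ringHom_ext (f := (MvPolynomial.eval (φ ∘ f)).comp (MvPolynomial.map φ))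
      (g := φ.comp (MvPolynomial.eval f)) (fun c => by simp) fun i => by simp) P)
  constructor
  · rintro ⟨r, f', hf', hspan⟩
    choose w hw using fun i =>
      (IsLocalization.mem_map_algebraMap_iff (Submonoid.powers g) L).mp
        (hspan.le (Ideal.subset_span ⟨i, rfl⟩) : f' i ∈ J.map φ)
    let f : Fin r → R := fun i => (w i).1
    have hspan' : Ideal.span (Set.range (φ ∘ f)) = Ideal.span (Set.range f') := by
      refine le_antisymm (Ideal.span_le.mpr ?_) (Ideal.span_le.mpr ?_)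
      · rintro _ ⟨i, rfl⟩
        rw [SetLike.mem_coe, Function.comp_apply, ← hw i]
        exact Ideal.mul_mem_right _ _ (Ideal.subset_span ⟨i, rfl⟩)
      · rintro _ ⟨i, rfl⟩
        obtain ⟨v, hv⟩ := IsLocalization.map_units L (w i).2
        rw [SetLike.mem_coe, show f' i = φ (f i) * ↑v⁻¹ by
          rw [← hw i, ← hv, mul_assoc, Units.mul_inv, mul_one]]
        exact Ideal.mul_mem_right _ _ (Ideal.subset_span ⟨i, rfl⟩)
    have hq : CAlgX.IsQuasiRegular (φ ∘ f) := isQuasiRegular_of_span_eq hf' _ hspan'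
    have hmap : Ideal.span (Set.range (φ ∘ f)) = J.map φ := hspan'.trans hspan
    refine ⟨r, f, fun i => (w i).1.2, fun x hx => ?_, fun k P hP he => ?_⟩
    · have : φ x ∈ (Ideal.span (Set.range f)).map φ := by
        rw [Ideal.map_span, ← Set.range_comp, hmap]
        exact Ideal.mem_map_of_mem φ hx
      exact (hpow _).mp this
    · have h := hq k _ (hP.map φ) (by
        rw [heval, hmap, ← Ideal.map_pow]; exact Ideal.mem_map_of_mem φ he)
      have h' : ∀ d, ∃ N : ℕ, g ^ N * P.coeff d ∈ J := fun d => by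
        refine (hpow J).mp ?_
        rw [← hmap, ← MvPolynomial.coeff_map]
        exact h d
      choose N hN using h'
      refine ⟨∑ d ∈ P.support, N d, fun d => ?_⟩
      by_cases hd : d ∈ P.support
      · obtain ⟨e, he'⟩ := Nat.exists_eq_add_of_le (Finset.single_le_sum (fun i _ => Nat.zero_le (N i)) hd)
        rw [he', pow_add, mul_right_comm]
        exact Ideal.mul_mem_right _ _ (hN d)
      · rw [MvPolynomial.notMem_support_iff.mp hd, mul_zero]; exact zero_mem _
  · rintro ⟨r, f, hfJ, hgen, hqr⟩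
    have hmap : Ideal.span (Set.range (φ ∘ f)) = J.map φ := by
      rw [Set.range_comp, ← Ideal.map_span]
      refine le_antisymm (Ideal.map_mono (Ideal.span_le.mpr (by rintro _ ⟨i, rfl⟩; exact hfJ i))) ?_
      rw [Ideal.map_le_iff_le_comap]
      exact fun x hx => (hpow _).mpr (hgen x hx)
    refine ⟨r, φ ∘ f, fun k P hP he d => ?_, hmap⟩
    rw [hmap, ← Ideal.map_pow] at he
    rw [hmap]
    obtain ⟨b, hb⟩ := IsLocalization.exist_integer_multiples_of_finset (Submonoid.powers g)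
      (P.support.image fun e => P.coeff e)
    have hlift : ∀ e, ∃ c : R, φ c = φ b * P.coeff e ∧ (P.coeff e = 0 → c = 0) := fun e => by
      by_cases h0 : P.coeff e = 0
      · exact ⟨0, by rw [map_zero, h0, mul_zero], fun _ => rfl⟩
      · obtain ⟨c, hc⟩ := hb _ (Finset.mem_image_of_mem _ (MvPolynomial.mem_support_iff.mpr h0))
        exact ⟨c, hc.trans (Algebra.smul_def _ _), fun h => absurd h h0⟩
    choose c hc hc0 using hlift
    let P₀ : MvPolynomial (Fin r) R := ∑ e ∈ P.support, MvPolynomial.monomial e (c e)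
    have hcoeff : ∀ e, P₀.coeff e = c e := fun e => by
      rw [MvPolynomial.coeff_sum]
      simp only [MvPolynomial.coeff_monomial, Finset.sum_ite_eq']
      split_ifs with h
      · rfl
      · exact (hc0 e (MvPolynomial.notMem_support_iff.mp h)).symm
    have hP₀ : P₀.IsHomogeneous k := MvPolynomial.IsHomogeneous.sum _ _ _ fun e he' =>
      MvPolynomial.isHomogeneous_monomial _ ((Finsupp.degree_apply e).trans (hP.degree_eq_sum_deg_support he').symm)
    have hmap0 : MvPolynomial.map φ P₀ = MvPolynomial.C (φ b) * P := MvPolynomial.ext _ _ fun e => by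
      rw [MvPolynomial.coeff_map, hcoeff, MvPolynomial.coeff_C_mul, hc]
    have he0 : φ (MvPolynomial.eval f P₀) ∈ (J ^ (k + 1)).map φ := by
      rw [← heval, hmap0, map_mul, MvPolynomial.eval_C]
      exact Ideal.mul_mem_left _ _ he
    obtain ⟨N, hN⟩ := (hpow _).mp he0
    obtain ⟨M, hM⟩ := hqr k (MvPolynomial.C (g ^ N) * P₀) (hP₀.C_mul _)
      (by rw [map_mul, MvPolynomial.eval_C]; exact hN)
    have hd := hM d
    rw [MvPolynomial.coeff_C_mul, hcoeff, ← mul_assoc, ← pow_add] at hd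
    have h1 : φ b * P.coeff d ∈ J.map φ := hc d ▸ (hpow J).mpr ⟨_, hd⟩
    obtain ⟨v, hv⟩ := IsLocalization.map_units L b
    rw [← one_mul (P.coeff d), ← v.inv_mul, mul_assoc, hv]
    exact Ideal.mul_mem_left _ _ h1

theorem isLocallyQuasiRegular_iff :
    PP16.IsLocallyQuasiRegular R J ↔
      ∀ (P : Ideal R) [P.IsPrime], J ≤ P → ∃ g, g ∉ P ∧ ∃ (r : ℕ) (f : Fin r → R), IsChart J g f := by
  constructor
  · intro h P _ hP
    obtain ⟨g, hg, h'⟩ := h P hP
    exact ⟨g, hg, (exists_chart_iff_away g).mp h'⟩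
  · intro h P _ hP
    obtain ⟨g, hg, h'⟩ := h P hP
    exact ⟨g, hg, (exists_chart_iff_away g).mpr h'⟩

theorem span_eq_top_of_cover {G : Set R}
    (h : ∀ (P : Ideal R) [P.IsPrime], ∃ g ∈ G, g ∉ P) : Ideal.span G = ⊤ := by
  by_contra hne
  obtain ⟨M, hM, hle⟩ := Ideal.exists_le_maximal _ hne
  obtain ⟨g, hg, hgM⟩ := h M
  exact hgM (hle (Ideal.subset_span hg))

theorem fg_of_cover {M : Type*} [AddCommGroup M] [Module R M] {N : Submodule R M}
    (h : ∀ (P : Ideal R) [P.IsPrime], ∃ g, g ∉ P ∧ ∃ T : Finset M, (T : Set M) ⊆ N ∧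
      ∀ x ∈ N, ∃ n : ℕ, g ^ n • x ∈ Submodule.span R (T : Set M)) : N.FG := by
  classical
  choose! g hg T hTN hT using h
  have htop : Ideal.span (Set.range fun P : {P : Ideal R // P.IsPrime} => g P.1) = ⊤ :=
    span_eq_top_of_cover fun P hP => ⟨_, ⟨⟨P, hP⟩, rfl⟩, hg P⟩
  obtain ⟨s, hs, hone⟩ := Submodule.mem_span_finite_of_mem_span
    (show (1 : R) ∈ Submodule.span R _ from (Ideal.eq_top_iff_one _).mp htop)
  choose P hP using fun a : s => (hs a.2 : ∃ P : {P : Ideal R // P.IsPrime}, g P.1 = a.1)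
  refine ⟨s.attach.biUnion fun a => T (P a).1, le_antisymm ?_ fun x hx => ?_⟩
  · rw [Submodule.span_le]
    intro y hy
    obtain ⟨a, -, hy⟩ := Finset.mem_biUnion.mp hy
    haveI := (P a).2
    exact hTN (P a).1 hy
  · refine Submodule.mem_of_span_eq_top_of_smul_pow_mem _ (s : Set R) ?_ x fun a => ?_
    · exact (Ideal.eq_top_iff_one _).mpr hone
    · haveI := (P ⟨a.1, a.2⟩).2
      obtain ⟨n, hn⟩ := hT (P ⟨a.1, a.2⟩).1 x hx
      rw [show g (P ⟨a.1, a.2⟩).1 = a.1 from hP ⟨a.1, a.2⟩] at hn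
      exact ⟨n, Submodule.span_mono (fun y hy =>
        Finset.mem_biUnion.mpr ⟨⟨a.1, a.2⟩, Finset.mem_attach _ _, hy⟩) hn⟩

theorem fg_of_charts
    (h : ∀ (P : Ideal R) [P.IsPrime], J ≤ P → ∃ g, g ∉ P ∧ ∃ (r : ℕ) (f : Fin r → R), IsChart J g f) :
    J.FG := by
  classical
  refine fg_of_cover fun P _ => ?_
  by_cases hP : J ≤ P
  · obtain ⟨g, hg, r, f, hf, hgen, -⟩ := h P hP
    refine ⟨g, hg, Finset.univ.image f, ?_, fun x hx => ?_⟩
    · rw [Finset.coe_image]
      rintro _ ⟨i, -, rfl⟩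
      exact hf i
    · obtain ⟨n, hn⟩ := hgen x hx
      refine ⟨n, ?_⟩
      rwa [Finset.coe_image, Finset.coe_univ, Set.image_univ]
  · obtain ⟨g, hgJ, hgP⟩ := SetLike.not_le_iff_exists.mp hP
    refine ⟨g, hgP, {g}, by simpa using hgJ, fun x _ => ⟨1, ?_⟩⟩
    rw [pow_one, Finset.coe_singleton, smul_eq_mul, mul_comm]
    exact Submodule.smul_mem _ x (Submodule.subset_span rfl)

theorem chart_generate_cotangent {g : R} {r : ℕ} {f : Fin r → R} (hf : IsChart J g f) (x : J.Cotangent) :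
    ∃ (N : ℕ) (a : Fin r → R), g ^ N • x = ∑ i, a i • J.toCotangent ⟨f i, hf.1 i⟩ := by
  obtain ⟨⟨x, hx⟩, rfl⟩ := Ideal.toCotangent_surjective J x
  obtain ⟨N, hN⟩ := hf.2.1 x hx
  obtain ⟨a, ha⟩ := Ideal.mem_span_range_iff_exists_fun.mp hN
  refine ⟨N, a, ?_⟩
  rw [← map_smul, show g ^ N • (⟨x, hx⟩ : ↥J) = ∑ i, a i • ⟨f i, hf.1 i⟩ from Subtype.ext (by
    rw [Submodule.coe_sum]; exact ha.symm), map_sum]
  simp only [map_smul]

theorem chart_relation {g : R} {r : ℕ} {f : Fin r → R} (hf : IsChart J g f) {a : Fin r → R}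
    (h : ∑ i, a i • J.toCotangent ⟨f i, hf.1 i⟩ = 0) : ∃ N : ℕ, ∀ i, g ^ N * a i ∈ J := by
  have h' : ∑ i, a i * f i ∈ J ^ 2 := by
    have e : J.toCotangent (∑ i, a i • ⟨f i, hf.1 i⟩) = 0 := by simpa only [map_sum, map_smul] using h
    rw [Ideal.toCotangent_eq_zero, Submodule.coe_sum] at e
    simpa using e
  obtain ⟨N, hN⟩ := hf.2.2 1 _ (isHomogeneous_linear a) (by rw [eval_linear]; exact h')
  exact ⟨N, fun i => by rw [← coeff_linear a i]; exact hN _⟩

theorem phiJ_injective_of_charts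
    (h : ∀ (P : Ideal R) [P.IsPrime], J ≤ P → ∃ g, g ∉ P ∧ ∃ (r : ℕ) (f : Fin r → R), IsChart J g f)
    (ι : Type u) [Fintype ι] [Nonempty ι] : Function.Injective (phiJ (J := J) (ι := ι)) := by
  classical
  refine LinearMap.ker_eq_bot.mp ((Submodule.eq_bot_iff _).mpr fun t ht => ?_)
  rw [LinearMap.mem_ker] at ht
  let ann : Ideal R := LinearMap.ker (LinearMap.toSpanSingleton R _ t)
  suffices ann = ⊤ by
    have h1 : (1 : R) • t = 0 := (this.symm ▸ Submodule.mem_top : (1 : R) ∈ ann)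
    rwa [one_smul] at h1
  by_contra hne
  obtain ⟨P, hP, hle⟩ := Ideal.exists_le_maximal _ hne
  have hJP : J ≤ P := fun a ha => hle (smul_eq_zero_of_mem (ι := ι) ha t)
  obtain ⟨g, hg, r, f, hf⟩ := h P hJP
  let v : Fin r → J.Cotangent := fun i => J.toCotangent ⟨f i, hf.1 i⟩
  let T : Submodule R (SymmetricPower R ι J.Cotangent) :=
    Submodule.span R (Set.range fun q : ι → Fin r => SymmetricPower.tprod R fun i => v (q i))
  have hspan : ∀ s : SymmetricPower R ι J.Cotangent, ∃ N : ℕ, g ^ N • s ∈ T := by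
    intro s
    have hs : s ∈ Submodule.span R (Set.range (SymmetricPower.tprod R (ι := ι) (M := J.Cotangent))) := by
      rw [SymmetricPower.span_tprod_eq_top]; trivial
    induction hs using Submodule.span_induction with
    | mem y hy =>
      obtain ⟨x, rfl⟩ := hy
      choose N a ha using fun i => chart_generate_cotangent hf (x i)
      refine ⟨∑ i, N i, ?_⟩
      rw [← Finset.prod_pow_eq_pow_sum, ← MultilinearMap.map_smul_univ,
        show (fun i => g ^ N i • x i) = fun i => ∑ j, a i j • v j from funext ha,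
        MultilinearMap.map_sum]
      refine Submodule.sum_mem _ fun q _ => ?_
      rw [MultilinearMap.map_smul_univ (SymmetricPower.tprod R) (fun i => a i (q i)) fun i => v (q i)]
      exact Submodule.smul_mem _ _ (Submodule.subset_span ⟨q, rfl⟩)
    | zero => exact ⟨0, by rw [smul_zero]; exact zero_mem _⟩
    | add a c _ _ ha hc =>
      obtain ⟨N, hN⟩ := ha
      obtain ⟨M, hM⟩ := hc
      refine ⟨N + M, ?_⟩
      rw [smul_add]
      refine add_mem ?_ ?_
      · rw [add_comm, pow_add, mul_smul]; exact Submodule.smul_mem _ _ hN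
      · rw [pow_add, mul_smul]; exact Submodule.smul_mem _ _ hM
    | smul c a _ ha =>
      obtain ⟨N, hN⟩ := ha
      exact ⟨N, by rw [smul_comm]; exact Submodule.smul_mem _ c hN⟩
  obtain ⟨N, hN⟩ := hspan t
  obtain ⟨c, hc⟩ := (Submodule.mem_span_range_iff_exists_fun R).mp hN
  let deg : (ι → Fin r) → (Fin r →₀ ℕ) := fun q => ∑ i, Finsupp.single (q i) 1
  have hdeg : ∀ q q', deg q = deg q' → SymmetricPower.tprod R (fun i => v (q i)) =
      SymmetricPower.tprod R fun i => v (q' i) := fun q q' hqq => by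
    refine H06PP.SymPow.tprod_eq_of_count_eq v fun s => ?_
    rw [← H06PP.SymPow.sum_single_apply q s, ← H06PP.SymPow.sum_single_apply q' s]
    exact DFunLike.congr_fun hqq s
  let P₀ : MvPolynomial (Fin r) R := ∑ q : ι → Fin r, MvPolynomial.monomial (deg q) (c q)
  have hP₀ : P₀.IsHomogeneous (Fintype.card ι) := MvPolynomial.IsHomogeneous.sum _ _ _ fun q _ =>
    MvPolynomial.isHomogeneous_monomial _ (by simp [deg])
  have hev : MvPolynomial.eval f P₀ = ∑ q : ι → Fin r, c q * ∏ i, f (q i) := by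
    rw [map_sum]
    refine Finset.sum_congr rfl fun q _ => ?_
    rw [← mul_one (c q), ← smul_eq_mul, ← MvPolynomial.smul_monomial, ← H06PP.SymPow.prod_X_eq_monomial,
      MvPolynomial.smul_eq_C_mul, map_mul, MvPolynomial.eval_C, map_prod, smul_eq_mul, mul_one]
    simp
  have hmem : ∀ q : ι → Fin r, ∏ i, f (q i) ∈ J ^ Fintype.card ι := fun q => prod_mem _ fun i => hf.1 _
  have he : MvPolynomial.eval f P₀ ∈ J ^ (Fintype.card ι + 1) := by
    refine (cls_eq_zero (Ideal.sum_mem _ fun q _ => Ideal.mul_mem_left _ (c q) (hmem q) |> fun h => h)).mp ?_ |> fun h => hev ▸ h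
    have h0 : phiJ (g ^ N • t) = 0 := by rw [map_smul, ht, smul_zero]
    rw [← hc, map_sum] at h0
    simp only [map_smul, phiJ_tprod, v] at h0
    refine Eq.trans ?_ h0
    show Submodule.mkQ _ _ = ∑ q, c q • Submodule.mkQ _ _
    simp only [← map_smul, ← map_sum]
    exact congrArg _ (Subtype.ext (by rw [Submodule.coe_sum]; rfl))
  obtain ⟨M, hM⟩ := hf.2.2 _ P₀ hP₀ he
  refine hg (hP.isPrime.mem_of_pow_mem (M + N) (hle ?_))
  show g ^ (M + N) • t = 0
  rw [pow_add, mul_smul, ← hc, Finset.smul_sum]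
  rw [← Finset.sum_fiberwise_of_maps_to (g := deg) (t := (Finset.univ : Finset (ι → Fin r)).image deg)
    (fun q _ => Finset.mem_image_of_mem _ (Finset.mem_univ q))]
  refine Finset.sum_eq_zero fun d hd => ?_
  obtain ⟨q₀, -, rfl⟩ := Finset.mem_image.mp hd
  rw [Finset.sum_congr rfl (g := fun q => (g ^ M * c q) • SymmetricPower.tprod R fun i => v (q₀ i))
    fun q hq => by rw [smul_smul, hdeg q q₀ (Finset.mem_filter.mp hq).2], ← Finset.sum_smul, ← Finset.mul_sum]
  refine smul_eq_zero_of_mem ?_ _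
  have := hM (deg q₀)
  rwa [MvPolynomial.coeff_sum, Finset.sum_congr rfl fun q _ => MvPolynomial.coeff_monomial _ _ _,
    ← Finset.sum_filter] at this

end Groth.Agent.H06QR
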